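import Cfsg.Agent.H59.SelfThree.Main
import Cfsg.Agent.H56.Kegel

/-!
An element of order three whose centraliser meets each local subgroup in its powers (adapted from
`H59.SelfThree`).
-/

set_option autoImplicit false
set_option linter.unusedSectionVars false

namespace H59.Nine.Loc


variable {G : Type*} [Group G]

/-- `x` has order three, its centraliser has exponent three, and inside the normaliser of a non-trivial
`3'`-subgroup only its own powers commute with it -/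
structure SF (x : G) : Prop where
  ord : orderOf x = 3
  cent : ∀ g, g * x = x * g → g ^ 3 = 1
  loc : ∀ D : Subgroup G, D ≠ ⊥ → ¬ 3 ∣ Nat.card D → x ∈ Subgroup.normalizer (D : Set G) →
    ∀ g ∈ Subgroup.normalizer (D : Set G), g * x = x * g → g = 1 ∨ g = x ∨ g = x * x

/-- `L` has order prime to three and is normalised by `x` -/
def IsInv (x : G) (L : Subgroup G) : Prop := (∀ g ∈ L, x * g * x⁻¹ ∈ L) ∧ ¬ 3 ∣ Nat.card L

variable {x : G}

theorem SF.cube (h : SF x) : x * x * x = 1 := by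
  rw [← pow_three', ← h.ord, pow_orderOf_eq_one]

theorem SF.inv_eq (h : SF x) : x⁻¹ = x * x :=
  inv_eq_of_mul_eq_one_right (by rw [← mul_assoc]; exact h.cube)

theorem SF.ne_one (h : SF x) : x ≠ 1 := fun e => by
  have := h.ord
  rw [e, orderOf_one] at this
  norm_num at this

theorem SF.cases_of_mem_zpowers [Finite G] (h : SF x) {g : G} (hg : g ∈ Subgroup.zpowers x) :
    g = 1 ∨ g = x ∨ g = x * x := by
  classical
  have h' := (IsOfFinOrder.mem_zpowers_iff_mem_range_orderOf (isOfFinOrder_of_finite x)).1 hg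
  rw [h.ord, Finset.mem_image] at h'
  obtain ⟨k, hk, rfl⟩ := h'
  rw [Finset.mem_range] at hk
  interval_cases k <;> simp [pow_two]

/-- inside the normaliser of a `3'`-subgroup -/
theorem SF.self3 (h : SF x) {D : Subgroup G} (hD1 : D ≠ ⊥) (hD3 : ¬ 3 ∣ Nat.card D) {H : Subgroup G}
    (hH : H ≤ Subgroup.normalizer (D : Set G)) (hxH : x ∈ H) : H59.SelfThree.Self3 (⟨x, hxH⟩ : H) := by
  refine ⟨by rw [Subgroup.orderOf_mk]; exact h.ord, fun g hg => ?_⟩
  rcases h.loc D hD1 hD3 (hH hxH) g (hH g.2) (congrArg Subtype.val hg) with e | e | e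
  · exact Or.inl (Subtype.ext e)
  · exact Or.inr (Or.inl (Subtype.ext e))
  · exact Or.inr (Or.inr (Subtype.ext e))

theorem SF.mem_zpowers_of_commute (h : SF x) {D : Subgroup G} (hD1 : D ≠ ⊥) (hD3 : ¬ 3 ∣ Nat.card D)
    (hxD : x ∈ Subgroup.normalizer (D : Set G)) {g : G} (hgD : g ∈ Subgroup.normalizer (D : Set G))
    (hg : g * x = x * g) : g ∈ Subgroup.zpowers x := by
  rcases h.loc D hD1 hD3 hxD g hgD hg with rfl | rfl | rfl
  · exact one_mem _
  · exact Subgroup.mem_zpowers _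
  · exact mul_mem (Subgroup.mem_zpowers _) (Subgroup.mem_zpowers _)

theorem SF.conj (h : SF x) (c : G) : SF (c * x * c⁻¹) := by
  have hb : ∀ {g : G}, g * (c * x * c⁻¹) = c * x * c⁻¹ * g → c⁻¹ * g * c * x = x * (c⁻¹ * g * c) := by
    intro g hg
    calc c⁻¹ * g * c * x = c⁻¹ * (g * (c * x * c⁻¹)) * c := by group
      _ = c⁻¹ * (c * x * c⁻¹ * g) * c := by rw [hg]
      _ = x * (c⁻¹ * g * c) := by group
  refine ⟨?_, fun g hg => ?_, fun D hD1 hD3 hxD g hgD hg => ?_⟩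
  · rw [← h.ord]
    exact orderOf_injective (MulAut.conj c).toMonoidHom (MulAut.conj c).injective x
  · have := h.cent _ (hb hg)
    calc g ^ 3 = c * (c⁻¹ * g * c) ^ 3 * c⁻¹ := by rw [← conj_pow]; congr 1; group
      _ = 1 := by rw [this]; group
  · set D' := D.map (MulAut.conj c⁻¹).toMonoidHom with hD'
    have hn : Subgroup.normalizer (D' : Set G) =
        (Subgroup.normalizer (D : Set G)).map (MulAut.conj c⁻¹).toMonoidHom :=
      (Subgroup.map_equiv_normalizer_eq D (MulAut.conj c⁻¹)).symm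
    have hmem : ∀ y ∈ Subgroup.normalizer (D : Set G), c⁻¹ * y * c ∈ Subgroup.normalizer (D' : Set G) :=
      fun y hy => hn ▸ ⟨y, hy, show c⁻¹ * y * c⁻¹⁻¹ = _ by rw [inv_inv]⟩
    have hx' := hmem _ hxD
    rw [show c⁻¹ * (c * x * c⁻¹) * c = x by group] at hx'
    have e : g = c * (c⁻¹ * g * c) * c⁻¹ := by group
    rcases h.loc D' (fun h0 => hD1 ((Subgroup.map_eq_bot_iff_of_injective _ (MulAut.conj c⁻¹).injective).1 h0))
      (by rwa [Subgroup.card_map_of_injective (MulAut.conj c⁻¹).injective]) hx' _ (hmem g hgD) (hb hg)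
      with e' | e' | e' <;> rw [e'] at e
    · left; simpa using e
    · exact Or.inr (Or.inl e)
    · right; right; rw [e]; group

theorem SF.inv (h : SF x) : SF x⁻¹ := by
  have hb : ∀ {g : G}, g * x⁻¹ = x⁻¹ * g → g * x = x * g := fun {g} hg => by
    simpa using ((Commute.inv_right (show Commute g x⁻¹ from hg))).eq
  refine ⟨by rw [orderOf_inv]; exact h.ord, fun g hg => h.cent g (hb hg), fun D hD1 hD3 hxD g hgD hg => ?_⟩
  rcases h.loc D hD1 hD3 (inv_mem_iff.1 hxD) g hgD (hb hg) with e | e | e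
  · exact Or.inl e
  · refine Or.inr (Or.inr ?_)
    rw [e, h.inv_eq, show x * x * (x * x) = x * (x * x * x) by group, h.cube, mul_one]
  · exact Or.inr (Or.inl (by rw [e, h.inv_eq]))

variable [Finite G]

theorem IsInv.eq_one (hx : SF x) {L : Subgroup G} (hL : IsInv x L) {g : G} (hg : g ∈ L)
    (hc : g * x = x * g) : g = 1 := by
  have h3 : orderOf g ∣ 3 := orderOf_dvd_of_pow_eq_one (hx.cent g hc)
  rcases (Nat.dvd_prime Nat.prime_three).1 h3 with h | h
  · exact orderOf_eq_one_iff.1 h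
  · exact absurd (h ▸ L.orderOf_dvd_natCard hg) hL.2

/-- conjugation by `x` on an invariant subgroup -/
def IsInv.aut (hx : SF x) {L : Subgroup G} (hL : IsInv x L) : MulAut L where
  toFun g := ⟨x * g * x⁻¹, hL.1 _ g.2⟩
  invFun g := ⟨x⁻¹ * g * x, by
    have h := hL.1 _ (hL.1 _ g.2)
    have e : x⁻¹ * (g : G) * x = x * (x * g * x⁻¹) * x⁻¹ := by
      rw [hx.inv_eq]
      calc x * x * (g : G) * x = x * x * g * (x * (x * x * x)) := by rw [hx.cube, mul_one]
        _ = x * (x * g * (x * x)) * (x * x) := by simp only [mul_assoc]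
    rw [e]; exact h⟩
  left_inv g := Subtype.ext (show x⁻¹ * (x * g * x⁻¹) * x = g by group)
  right_inv g := Subtype.ext (show x * (x⁻¹ * g * x) * x⁻¹ = g by group)
  map_mul' g h := Subtype.ext (show x * (g * h) * x⁻¹ = x * g * x⁻¹ * (x * h * x⁻¹) by group)

theorem IsInv.aut_fpf (hx : SF x) {L : Subgroup G} (hL : IsInv x L) : H69.Fpf.IsFpf (hL.aut hx) := by
  refine ⟨fun g => Subtype.ext ?_, fun g hg => Subtype.ext (hL.eq_one hx g.2 ?_)⟩
  · show x * (x * (x * g * x⁻¹) * x⁻¹) * x⁻¹ = g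
    calc x * (x * (x * (g : G) * x⁻¹) * x⁻¹) * x⁻¹ = (x * x * x) * g * (x * x * x)⁻¹ := by group
      _ = g := by rw [hx.cube]; group
  · have h1 : x * g * x⁻¹ = (g : G) := congrArg Subtype.val hg
    calc (g : G) * x = x * g * x⁻¹ * x := by rw [h1]
      _ = x * g := by group

theorem IsInv.prod_eq_one (hx : SF x) {L : Subgroup G} (hL : IsInv x L) {g : G} (hg : g ∈ L) :
    g * (x * g * x⁻¹) * (x * (x * g * x⁻¹) * x⁻¹) = 1 :=
  congrArg Subtype.val (H69.Fpf.orbit_prod (hL.aut_fpf hx) ⟨g, hg⟩)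

theorem IsInv.commute (hx : SF x) {L : Subgroup G} (hL : IsInv x L) {g : G} (hg : g ∈ L) :
    g * (x * g * x⁻¹) = x * g * x⁻¹ * g :=
  congrArg Subtype.val (H69.Fpf.commute_rho (hL.aut_fpf hx) ⟨g, hg⟩)

theorem IsInv.exists_disp (hx : SF x) {L : Subgroup G} (hL : IsInv x L) {g : G} (hg : g ∈ L) :
    ∃ y ∈ L, y⁻¹ * (x * y * x⁻¹) = g := by
  obtain ⟨y, hy⟩ := H69.Fpf.exists_disp (hL.aut_fpf hx) ⟨g, hg⟩
  exact ⟨y, y.2, congrArg Subtype.val hy⟩

/-- every element of the coset `L x` is conjugate to `x` under `L` -/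
theorem IsInv.coset_conj (hx : SF x) {L : Subgroup G} (hL : IsInv x L) {g : G} (hg : g ∈ L) :
    ∃ y ∈ L, y * x * y⁻¹ = g * x := by
  obtain ⟨y, hy, e⟩ := hL.exists_disp hx hg
  exact ⟨y⁻¹, L.inv_mem hy, by rw [← e]; group⟩

theorem IsInv.mem_of_disp (hx : SF x) {L : Subgroup G} (hL : IsInv x L) {N : Subgroup G}
    (hNL : N ≤ L) (hN : ∀ g ∈ N, x * g * x⁻¹ ∈ N) {g : G} (hg : g ∈ L)
    (hd : g⁻¹ * (x * g * x⁻¹) ∈ N) : g ∈ N :=
  H69.Fpf.mem_of_disp_mem (hL.aut_fpf hx) (K := N.subgroupOf L)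
    (fun k hk => hN _ hk) (g := ⟨g, hg⟩) hd

theorem IsInv.card_mod (hx : SF x) {L : Subgroup G} (hL : IsInv x L) : Nat.card L % 3 = 1 :=
  H69.Fpf.card_mod_three (hL.aut_fpf hx)

theorem IsInv.of_le {L M : Subgroup G} (hL : IsInv x L) (hM : M ≤ L) (hn : ∀ g ∈ M, x * g * x⁻¹ ∈ M) :
    IsInv x M :=
  ⟨hn, fun h => hL.2 (h.trans (Subgroup.card_dvd_of_le hM))⟩

theorem isInv_bot : IsInv x (⊥ : Subgroup G) :=
  ⟨fun g hg => by rw [Subgroup.mem_bot.1 hg]; simp, by simp⟩

theorem IsInv.conj {L : Subgroup G} (hL : IsInv x L) (c : G) :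
    IsInv (c * x * c⁻¹) (L.map (MulAut.conj c).toMonoidHom) := by
  refine ⟨?_, by rw [Subgroup.card_map_of_injective (MulAut.conj c).injective]; exact hL.2⟩
  rintro _ ⟨g, hg, rfl⟩
  refine ⟨x * g * x⁻¹, hL.1 g hg, ?_⟩
  show c * (x * g * x⁻¹) * c⁻¹ = c * x * c⁻¹ * (c * g * c⁻¹) * (c * x * c⁻¹)⁻¹
  group

theorem IsInv.nilpotent (hx : SF x) {L : Subgroup G} (hL : IsInv x L) : Group.IsNilpotent L := by
  by_cases h1 : hL.aut hx = 1
  · haveI : Subsingleton L := ⟨fun a b => by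
      have ha := (hL.aut_fpf hx).2 a (by rw [h1]; rfl)
      have hb := (hL.aut_fpf hx).2 b (by rw [h1]; rfl)
      rw [ha, hb]⟩
    infer_instance
  have h3 : hL.aut hx ^ 3 = 1 := MulEquiv.ext fun g => by
    simp [pow_succ, (hL.aut_fpf hx).1 g]
  haveI := Fact.mk Nat.prime_three
  refine H56.splitting_nilpotent (hL.aut hx) Nat.prime_three (orderOf_eq_prime h3 h1) fun g => ?_
  have := H69.Fpf.orbit_prod (hL.aut_fpf hx) g
  simpa [List.range_succ, pow_succ, mul_assoc] using this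

end H59.Nine.Loc
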