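import Cfsg.Agent.H59.Nine.Loc.Base

/-!
Local subgroups at a non-trivial invariant subgroup.
-/

set_option autoImplicit false
set_option linter.unusedSectionVars false

namespace H59.Nine.Loc

local notation "A5" => alternatingGroup (Fin 5)

variable {G : Type*} [Group G] [Finite G] {x : G}

/-- what the outcome says about a subgroup with a non-trivial normal `3'`-subgroup -/
theorem local_cases (hx : SF x) {H : Subgroup G} (hxH : x ∈ H) {D : Subgroup G}
    (hDH : D ≤ H) (hHD : H ≤ Subgroup.normalizer (D : Set G)) (hD1 : D ≠ ⊥) (hD3 : ¬ 3 ∣ Nat.card D) :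
    (∃ K ≤ H, H ≤ Subgroup.normalizer (K : Set G) ∧ IsInv x K ∧
      (Nat.card H = 3 * Nat.card K ∨ Nat.card H = 6 * Nat.card K) ∧ ∀ L ≤ H, IsInv x L → L ≤ K) ∨
    (∃ K ≤ H, IsInv x K ∧ (∀ k ∈ K, k * k = 1) ∧ Nat.card H = 60 * Nat.card K ∧
      (∀ L ≤ H, H ≤ Subgroup.normalizer (L : Set G) → IsInv x L → L ≤ K) ∧
      ∀ L ≤ H, IsInv x L → ∃ R ≤ H, IsInv x R ∧ K ≤ R ∧ L ⊔ K ≤ R ∧ Nat.card R = 4 * Nat.card K) := by
  have hxs : H59.SelfThree.Self3 (⟨x, hxH⟩ : H) := hx.self3 hD1 hD3 hHD hxH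
  have hO := H59.SelfThree.outcome hxs
  have hmap : ∀ K : Subgroup H, ¬ 3 ∣ Nat.card K → (∀ g ∈ K, (⟨x, hxH⟩ : H) * g * (⟨x, hxH⟩ : H)⁻¹ ∈ K) →
      IsInv x (K.map H.subtype) := by
    intro K hK3 hn
    refine ⟨?_, by rwa [Subgroup.card_map_of_injective H.subtype_injective]⟩
    rintro _ ⟨g, hg, rfl⟩
    exact ⟨_, hn g hg, rfl⟩
  have hres : ∀ L ≤ H, IsInv x L → H59.SelfThree.IsInv (⟨x, hxH⟩ : H) (L.subgroupOf H) := fun L hL hLi =>
    ⟨fun g hg => hLi.1 _ hg, by rw [Nat.card_congr (Subgroup.subgroupOfEquivOfLe hL).toEquiv]; exact hLi.2⟩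
  have hcm : ∀ K : Subgroup H, Nat.card (K.map H.subtype) = Nat.card K := fun K =>
    Subgroup.card_map_of_injective H.subtype_injective
  rcases hO with ⟨K, hK, hK3, hidx⟩ | ⟨π, hπ, hK3⟩ | ⟨hsimp, -⟩
  · left
    refine ⟨K.map H.subtype, Subgroup.map_subtype_le _, ?_, hmap K hK3 (fun g hg => hK.conj_mem g hg _), ?_, ?_⟩
    · intro h hh
      refine Subgroup.mem_normalizer_iff.2 fun g => ⟨?_, ?_⟩
      · rintro ⟨k, hk, rfl⟩
        exact ⟨_, hK.conj_mem k hk ⟨h, hh⟩, rfl⟩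
      · rintro ⟨k, hk, e⟩
        refine ⟨_, hK.conj_mem k hk (⟨h, hh⟩ : H)⁻¹, ?_⟩
        show h⁻¹ * (k : G) * h⁻¹⁻¹ = g
        rw [show (k : G) = h * g * h⁻¹ from e]; group
    · have := K.card_mul_index
      rw [hcm]
      rcases hidx with h | h <;> rw [h] at this <;> omega
    · intro L hL hLi g hg
      refine ⟨⟨g, hL hg⟩, ?_, rfl⟩
      refine (QuotientGroup.eq_one_iff _).1 ?_
      have hs : H59.SelfThree.Self3 (QuotientGroup.mk' K ⟨x, hxH⟩) :=
        hxs.image (QuotientGroup.mk'_surjective K) (by rwa [QuotientGroup.ker_mk'])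
      have hbot := H59.SelfThree.small_index hs (hidx.imp id id) ((hres L hL hLi).image (QuotientGroup.mk' K))
      exact Subgroup.mem_bot.1 (hbot ▸ Subgroup.mem_map_of_mem (QuotientGroup.mk' K) (show (⟨g, hL hg⟩ : H) ∈ L.subgroupOf H from hg))
  · right
    have hs := hxs.image hπ hK3
    have hkin : ∀ g ∈ π.ker, (⟨x, hxH⟩ : H) * g * (⟨x, hxH⟩ : H)⁻¹ ∈ π.ker := fun g hg =>
      (inferInstance : π.ker.Normal).conj_mem g hg _
    obtain ⟨Y₀, hY₀, hY₀c⟩ := H59.SelfThree.a5_four hs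
    have hle : ∀ Y : Subgroup A5, π.ker ≤ Y.comap π := fun Y g hg => by
      rw [Subgroup.mem_comap, MonoidHom.mem_ker.1 hg]; exact one_mem Y
    refine ⟨π.ker.map H.subtype, Subgroup.map_subtype_le _, hmap _ hK3 hkin, ?_, ?_, ?_, ?_⟩
    · rintro _ ⟨k, hk, rfl⟩
      exact congrArg Subtype.val ((H59.SelfThree.kernel_elementary hxs hπ hK3).1 k hk)
    · rw [hcm, ← π.ker.card_mul_index, Subgroup.index_ker, MonoidHom.range_eq_top.2 hπ, Subgroup.card_top, H59.SelfThree.card_A5,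
        mul_comm]
    · intro L hL hLn hLi g hg
      refine ⟨⟨g, hL hg⟩, ?_, rfl⟩
      set L' := (L.subgroupOf H).map π with hL'
      haveI : (L.subgroupOf H).Normal := Subgroup.normal_subgroupOf_of_le_normalizer hLn
      haveI : L'.Normal := Subgroup.Normal.map inferInstance π hπ
      haveI : IsSimpleGroup A5 := alternatingGroup.isSimpleGroup_five
      rcases (inferInstance : L'.Normal).eq_bot_or_eq_top with h | h
      · exact Subgroup.mem_bot.1 (h ▸ Subgroup.mem_map_of_mem π (show (⟨g, hL hg⟩ : H) ∈ L.subgroupOf H from hg))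
      · exfalso
        have := ((hres L hL hLi).image π).2
        rw [← hL', h, Subgroup.card_top, H59.SelfThree.card_A5] at this
        norm_num at this
    · intro L hL hLi
      obtain ⟨Y, hY, hYL, hYc⟩ : ∃ Y : Subgroup A5, H59.SelfThree.IsInv (π ⟨x, hxH⟩) Y ∧ (L.subgroupOf H).map π ≤ Y ∧
          Nat.card Y = 4 := by
        rcases H59.SelfThree.a5_inv_card hs ((hres L hL hLi).image π) with h | h
        · exact ⟨Y₀, hY₀, by rw [Subgroup.card_eq_one.1 h]; exact bot_le, hY₀c⟩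
        · exact ⟨_, (hres L hL hLi).image π, le_rfl, h⟩
      have hR := hY.preimage hπ hK3
      refine ⟨(Y.comap π).map H.subtype, Subgroup.map_subtype_le _, hmap _ hR.2 hR.1,
        Subgroup.map_mono (hle Y), sup_le ?_ (Subgroup.map_mono (hle Y)), ?_⟩
      · intro g hg
        exact ⟨⟨g, hL hg⟩, hYL (Subgroup.mem_map_of_mem π (show (⟨g, hL hg⟩ : H) ∈ L.subgroupOf H from hg)), rfl⟩
      · rw [hcm, hcm, H59.SelfThree.card_comap hπ, hYc, mul_comm]
  · exfalso
    haveI : (D.subgroupOf H).Normal := Subgroup.normal_subgroupOf_of_le_normalizer hHD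
    rcases (inferInstance : (D.subgroupOf H).Normal).eq_bot_or_eq_top with h | h
    · exact hD1 (by
        rw [← Subgroup.map_subgroupOf_eq_of_le hDH, h, Subgroup.map_bot])
    · apply hD3
      have : H ≤ D := Subgroup.subgroupOf_eq_top.1 h
      have h3 : 3 ∣ Nat.card H := hx.ord ▸ H.orderOf_dvd_natCard hxH
      exact h3.trans (Subgroup.card_dvd_of_le this)

end H59.Nine.Loc
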