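import Cfsg.Agent.H59.Nine.Loc.Maximal

/-!
Maximal invariant subgroups of even order with normaliser of index six: their `2`-parts.
-/

set_option autoImplicit false
set_option linter.unusedSectionVars false

namespace H59.Nine.Loc


variable {G : Type*} [Group G] [Finite G] {x : G}

local notation "cj" => fun c => MulEquiv.toMonoidHom (MulAut.conj c)

theorem two_fact : Fact (Nat.Prime 2) := ⟨Nat.prime_two⟩

attribute [local instance] two_fact

/-- structure of the normaliser -/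
theorem ev_structure (hx : SF x) {L : Subgroup G} (hL : IsEv x L) :
    ∃ t ∈ Subgroup.normalizer (L : Set G), t * x * t⁻¹ = x⁻¹ ∧
      ∀ g ∈ Subgroup.normalizer (L : Set G), ∃ l ∈ L, ∃ i ∈ Subgroup.zpowers x, g = l * i ∨ g = l * t * i := by
  obtain ⟨hM, -, hcard⟩ := hL
  set N := Subgroup.normalizer (L : Set G) with hN
  have hxN : x ∈ N := mem_normalizer_of_isInv hx hM.1
  have hxs : H59.SelfThree.Self3 (⟨x, hxN⟩ : N) := hx.self3 hM.2.1 hM.1.2 le_rfl hxN
  haveI : (L.subgroupOf N).Normal := Subgroup.normal_subgroupOf_of_le_normalizer le_rfl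
  have hLc : Nat.card (L.subgroupOf N) = Nat.card L :=
    Nat.card_congr (Subgroup.subgroupOfEquivOfLe (Subgroup.le_normalizer (H := L))).toEquiv
  let π := QuotientGroup.mk' (L.subgroupOf N)
  have hs : H59.SelfThree.Self3 (π ⟨x, hxN⟩) :=
    hxs.image (QuotientGroup.mk'_surjective _) (by rw [QuotientGroup.ker_mk', hLc]; exact hM.1.2)
  have hQ : Nat.card (N ⧸ L.subgroupOf N) = 6 := by
    have := Subgroup.card_eq_card_quotient_mul_card_subgroup (L.subgroupOf N)
    rw [hLc] at this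
    exact Nat.eq_of_mul_eq_mul_right Nat.card_pos (this.symm.trans hcard)
  set Z := Subgroup.zpowers (π ⟨x, hxN⟩) with hZ
  have hZi : Z.index = 2 := by
    have := Z.card_mul_index
    rw [hQ, Nat.card_zpowers, hs.ord] at this
    omega
  -- membership in the kernel
  have hker : ∀ g : N, ∀ j : ℤ, π g = π ⟨x, hxN⟩ ^ j → ∃ l ∈ L, (g : G) = l * x ^ j := by
    intro g j e
    refine ⟨g * (x ^ j)⁻¹, ?_, by group⟩
    rw [← map_zpow] at e
    have h1 : π (g * ((⟨x, hxN⟩ : N) ^ j)⁻¹) = 1 := by rw [map_mul, map_inv, ← e, mul_inv_cancel]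
    have := Subgroup.mem_subgroupOf.1 ((QuotientGroup.eq_one_iff _).1 h1)
    simpa using this
  obtain ⟨q, hq⟩ : ∃ q, q ∉ Z := by
    by_contra h
    push Not at h
    have := Subgroup.index_eq_one.2 ((Subgroup.eq_top_iff' Z).2 h)
    omega
  obtain ⟨g, rfl⟩ := QuotientGroup.mk'_surjective _ q
  haveI : Z.Normal := Subgroup.normal_of_index_eq_two hZi
  obtain ⟨j, hj⟩ := Subgroup.mem_zpowers_iff.1 ((inferInstance : Z.Normal).conj_mem _ (Subgroup.mem_zpowers _) (π g))
  rw [← map_inv, ← map_mul, ← map_mul] at hj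
  obtain ⟨l, hl, e⟩ := hker _ j hj.symm
  simp only [Subgroup.coe_mul, Subgroup.coe_inv] at e
  -- the value of the exponent
  have hjc : x ^ j = x ∨ x ^ j = x⁻¹ := by
    rcases hx.cases_of_mem_zpowers (⟨j, rfl⟩ : x ^ j ∈ Subgroup.zpowers x) with h | h | h
    · exfalso
      rw [h, mul_one] at e
      have h3 : orderOf l = 3 := e ▸ (hx.conj (g : G)).ord
      exact hM.1.2 (h3 ▸ L.orderOf_dvd_natCard hl)
    · exact Or.inl h
    · exact Or.inr (by rw [h, hx.inv_eq])
  rcases hjc with h | h <;> rw [h] at e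
  · exfalso
    obtain ⟨c, hc, ec⟩ := hM.1.coset_conj hx hl
    rw [← e] at ec
    have hcg : c⁻¹ * g * x = x * (c⁻¹ * g) := by
      calc c⁻¹ * g * x = c⁻¹ * (g * x * (g : G)⁻¹) * g := by group
        _ = x * (c⁻¹ * g) := by rw [← ec]; group
    obtain ⟨i, hi⟩ := Subgroup.mem_zpowers_iff.1 (hx.mem_zpowers_of_commute hM.2.1 hM.1.2 hxN
      (Subgroup.mul_mem _ (Subgroup.inv_mem _ (Subgroup.le_normalizer hc)) g.2) hcg)
    refine hq (Subgroup.mem_zpowers_iff.2 ⟨i, ?_⟩)
    rw [← map_zpow]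
    refine QuotientGroup.eq.2 (Subgroup.mem_subgroupOf.2 ?_)
    show ((((⟨x, hxN⟩ : N) ^ i)⁻¹ * g : N) : G) ∈ L
    simp only [Subgroup.coe_mul, Subgroup.coe_inv, SubgroupClass.coe_zpow]
    have hn : x ^ i ∈ N := Subgroup.zpow_mem _ hxN i
    have hg : (g : G) = c * x ^ i := by rw [hi]; group
    rw [hg, ← mul_assoc]
    have h' := (Subgroup.mem_normalizer_iff.1 (Subgroup.inv_mem _ hn) c).1 hc
    rwa [inv_inv] at h'
  · have hxi : SF x⁻¹ := hx.inv
    have hMi : IsInv x⁻¹ L := ⟨fun a ha => by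
      have h' := (Subgroup.mem_normalizer_iff.1 (Subgroup.inv_mem _ hxN) a).1 ha
      exact h', hM.1.2⟩
    obtain ⟨c, hc, ec⟩ := hMi.coset_conj hxi hl
    rw [← e] at ec
    have hcN : c ∈ N := Subgroup.le_normalizer hc
    refine ⟨c⁻¹ * g, N.mul_mem (N.inv_mem hcN) g.2, ?_, ?_⟩
    · calc c⁻¹ * g * x * (c⁻¹ * g)⁻¹ = c⁻¹ * (g * x * (g : G)⁻¹) * c := by group
        _ = x⁻¹ := by rw [← ec]; group
    · intro a ha
      by_cases hZa : π ⟨a, ha⟩ ∈ Z
      · obtain ⟨i, hi⟩ := Subgroup.mem_zpowers_iff.1 hZa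
        obtain ⟨l', hl', e'⟩ := hker _ i hi.symm
        exact ⟨l', hl', _, ⟨i, rfl⟩, Or.inl e'⟩
      · have hmem : (π g)⁻¹ * π ⟨a, ha⟩ ∈ Z := (Subgroup.mul_mem_iff_of_index_two hZi).2
          (iff_of_false (fun h => hq (inv_mem_iff.1 h)) hZa)
        obtain ⟨i, hi⟩ := Subgroup.mem_zpowers_iff.1 hmem
        rw [← map_inv, ← map_mul] at hi
        obtain ⟨l', hl', e'⟩ := hker _ i hi.symm
        simp only [Subgroup.coe_mul, Subgroup.coe_inv] at e'
        refine ⟨g * l' * (g : G)⁻¹ * c, L.mul_mem ((Subgroup.mem_normalizer_iff.1 g.2 l').1 hl') hc, x ^ i,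
          ⟨i, rfl⟩, Or.inr ?_⟩
        calc a = g * ((g : G)⁻¹ * a) := by group
          _ = _ := by rw [e']; group

/-- a `2`-element of the normaliser outside `L` centralises nothing together with a conjugate -/
theorem out_fix (hx : SF x) {L : Subgroup G} (hL : IsEv x L) {τ : G}
    (hτ : τ ∈ Subgroup.normalizer (L : Set G)) (hτL : τ ∉ L) {k : ℕ} (hk : τ ^ 2 ^ k = 1) {d : G} (hd : d ∈ L)
    (h1 : τ * d = d * τ) (h2 : τ * (x⁻¹ * d * x) = x⁻¹ * d * x * τ) : d = 1 := by
  obtain ⟨t, ht, hti, hall⟩ := ev_structure hx hL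
  obtain ⟨l, hl, i, hi, hcase⟩ := hall τ hτ
  have hLi := hL.1.1
  set N := Subgroup.normalizer (L : Set G)
  have hxN : x ∈ N := mem_normalizer_of_isInv hx hLi
  rcases hcase with e | e
  · exfalso
    have h3 : τ ^ 3 = 1 := by
      rcases hx.cases_of_mem_zpowers hi with h | h | h
      · exact absurd (by rw [e, h, mul_one]; exact hl) hτL
      · obtain ⟨c, -, ec⟩ := hLi.coset_conj hx hl
        rw [e, h, ← ec, pow_three']
        exact (hx.conj c).cube
      · have e2 : τ⁻¹ = (x * l⁻¹ * x⁻¹) * x := by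
          rw [e, h, ← hx.inv_eq]; group
        obtain ⟨c, -, ec⟩ := hLi.coset_conj hx (hLi.1 _ (L.inv_mem hl))
        have : τ⁻¹ ^ 3 = 1 := by rw [e2, ← ec, pow_three']; exact (hx.conj c).cube
        rwa [inv_pow, inv_eq_one] at this
    refine hτL ?_
    rw [orderOf_eq_one_iff.1 (Nat.eq_one_of_dvd_coprimes (Nat.Coprime.pow_left k (by norm_num : Nat.Coprime 2 3))
      (orderOf_dvd_of_pow_eq_one hk) (orderOf_dvd_of_pow_eq_one h3))]
    exact one_mem L
  -- `t * i` inverts `x`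
  set s := t * i with hs
  have hsN : s ∈ N := N.mul_mem ht (Subgroup.zpowers_le.2 hxN hi)
  have hsi : s * x * s⁻¹ = x⁻¹ := by
    obtain ⟨j, rfl⟩ := Subgroup.mem_zpowers_iff.1 hi
    rw [hs]
    calc t * x ^ j * x * (t * x ^ j)⁻¹ = t * x * t⁻¹ := by group
      _ = x⁻¹ := hti
  have hs2 : s * s * x = x * (s * s) := by
    have h' : s * x⁻¹ * s⁻¹ = x := by
      have := congrArg (·⁻¹) hsi
      simp only [mul_inv_rev, inv_inv, ← mul_assoc] at this
      exact this
    calc s * s * x = s * (s * x * s⁻¹) * s⁻¹ * (s * s) := by group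
      _ = x * (s * s) := by rw [hsi, h']
  have eτ : τ = l * s := by rw [e, hs, mul_assoc]
  -- `σ = τ (x τ x⁻¹) ∈ L x`
  set σ := τ * (x * τ * x⁻¹) with hσ
  obtain ⟨l', hl', eσ⟩ : ∃ l' ∈ L, σ = l' * x := by
    refine ⟨σ * x⁻¹, ?_, by group⟩
    have hss : s * s ∈ L → True := fun _ => trivial
    have hs4 : s * s = 1 := by
      rcases hx.loc L hL.1.2.1 hLi.2 hxN _ (N.mul_mem hsN hsN) hs2 with h | h | h
      · exact h
      · exfalso
        have : s * x * s⁻¹ = x := by rw [← h]; group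
        exact hx.ne_one (by
          have hc := hx.cube
          rwa [show x * x = 1 from (congrArg (x * ·) (this.symm.trans hsi)).trans (mul_inv_cancel x), one_mul] at hc)
      · exfalso
        have : s * x * s⁻¹ = x := by
          have h' : s * (x * x) * s⁻¹ = x * x := by rw [← h]; group
          rw [← hx.inv_eq] at h'
          have := congrArg (·⁻¹) h'
          simp only [mul_inv_rev, inv_inv, ← mul_assoc] at this
          exact this
        exact hx.ne_one (by
          have hc := hx.cube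
          rwa [show x * x = 1 from (congrArg (x * ·) (this.symm.trans hsi)).trans (mul_inv_cancel x), one_mul] at hc)
    have hsx : s * x = x⁻¹ * s := by rw [← hsi]; group
    have e2 : σ * x⁻¹ = l * ((s * x) * l * (s * x)⁻¹) := by
      have h3 : x⁻¹ * x⁻¹ = x := by
        rw [hx.inv_eq, show x * x * (x * x) = x * (x * x * x) by group, hx.cube, mul_one]
      calc σ * x⁻¹ = l * ((s * x) * l * (s * x)⁻¹) * (s * x * (s * x⁻¹ * x⁻¹)) := by rw [hσ, eτ]; group
        _ = _ := by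
          rw [mul_assoc s x⁻¹ x⁻¹, h3, hsx, show x⁻¹ * s * (x⁻¹ * s) = x⁻¹ * (s * x⁻¹ * s) by group]
          have : s * x⁻¹ * s = x := by
            calc s * x⁻¹ * s = s * x⁻¹ * s⁻¹ * (s * s) := by group
              _ = (s * x * s⁻¹)⁻¹ := by rw [hs4]; group
              _ = x := by rw [hsi, inv_inv]
          rw [this]; group
    rw [e2]
    exact L.mul_mem hl ((Subgroup.mem_normalizer_iff.1 (N.mul_mem hsN hxN) l).1 hl)
  obtain ⟨c, hc, ec⟩ := hLi.coset_conj hx hl'
  have hσd : σ * d = d * σ := by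
    rw [hσ]
    have h2' : x * τ * x⁻¹ * d = d * (x * τ * x⁻¹) := by
      calc x * τ * x⁻¹ * d = x * (τ * (x⁻¹ * d * x)) * x⁻¹ := by group
        _ = d * (x * τ * x⁻¹) := by rw [h2]; group
    calc τ * (x * τ * x⁻¹) * d = τ * (x * τ * x⁻¹ * d) := by group
      _ = τ * d * (x * τ * x⁻¹) := by rw [h2']; group
      _ = _ := by rw [h1]; group
  rw [eσ, ← ec] at hσd
  have hcom : c⁻¹ * d * c * x = x * (c⁻¹ * d * c) := by
    calc c⁻¹ * d * c * x = c⁻¹ * (d * (c * x * c⁻¹)) * c := by group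
      _ = x * (c⁻¹ * d * c) := by rw [← hσd]; group
  have := hLi.eq_one hx (L.mul_mem (L.mul_mem (L.inv_mem hc) hd) hc) hcom
  calc d = c * (c⁻¹ * d * c) * c⁻¹ := by group
    _ = 1 := by rw [this]; group

/-- an element centralising a subgroup of index two of an invariant subgroup is central -/
theorem central_of_half (hx : SF x) {M D : Subgroup G} (hM : IsInv x M) (hD : D ≤ M)
    (hhalf : ∀ a ∈ M, ∀ b ∈ M, a ∉ D → b ∉ D → a⁻¹ * b ∈ D) {v : G} (hv : v ∈ M)
    (hvD : ∀ d ∈ D, d * v = v * d) : ∀ w ∈ M, w * v = v * w := by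
  intro w0 hw0
  by_contra hne
  set e := w0 * v * w0⁻¹ * v⁻¹ with he
  have he1 : e ≠ 1 := fun h => hne (by
    calc w0 * v = e * v * w0 := by rw [he]; group
      _ = v * w0 := by rw [h, one_mul])
  have hw0D : w0 ∉ D := fun h => hne (hvD w0 h)
  -- constant outside `D`
  have hcon : ∀ w ∈ M, w ∉ D → w * v * w⁻¹ = e * v := by
    intro w hw hwD
    have hd := hhalf w0 hw0 w hw hw0D hwD
    calc w * v * w⁻¹ = w0 * ((w0⁻¹ * w) * v) * (w0⁻¹ * w)⁻¹ * w0⁻¹ := by group
      _ = e * v := by rw [hvD _ hd, he]; group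
  have hDe : ∀ d ∈ D, d * e = e * d := by
    intro d hd
    have hdw : d * w0 ∉ D := fun h => hw0D (by
      have := D.mul_mem (D.inv_mem hd) h
      rwa [inv_mul_cancel_left] at this)
    have h1 := hcon _ (M.mul_mem (hD hd) hw0) hdw
    calc d * e = (d * w0) * v * (d * w0)⁻¹ * (d * v⁻¹) := by rw [he]; group
      _ = e * v * (d * v⁻¹) := by rw [h1]
      _ = e * (v * d) * v⁻¹ := by group
      _ = e * d := by rw [← hvD d hd]; group
  -- `D` is not invariant
  have hrot : ∀ g, x * (x * (x * g * x⁻¹) * x⁻¹) * x⁻¹ = g := fun g => by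
    calc x * (x * (x * g * x⁻¹) * x⁻¹) * x⁻¹ = (x * x * x) * g * (x * x * x)⁻¹ := by group
      _ = g := by rw [hx.cube]; group
  obtain ⟨a, haD, ha1⟩ : ∃ a ∈ D, x * a * x⁻¹ ∉ D := by
    by_contra h
    push Not at h
    have h2 : x * w0 * x⁻¹ ∉ D := fun h' => hw0D (hrot w0 ▸ h _ (h _ h'))
    exact hw0D (hM.mem_of_disp hx hD h hw0 (hhalf _ hw0 _ (hM.1 _ hw0) hw0D h2))
  obtain ⟨b, hbD, hb1⟩ : ∃ b ∈ D, x * (x * b * x⁻¹) * x⁻¹ ∉ D := by
    by_contra h
    push Not at h
    exact ha1 (hrot (x * a * x⁻¹) ▸ h _ (h _ haD))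
  obtain ⟨w, hwD, hw1, hw2⟩ : ∃ w ∈ D, x * w * x⁻¹ ∉ D ∧ x * (x * w * x⁻¹) * x⁻¹ ∉ D := by
    by_cases h1 : x * (x * a * x⁻¹) * x⁻¹ ∈ D
    · by_cases h2 : x * b * x⁻¹ ∈ D
      · refine ⟨a * b, D.mul_mem haD hbD, ?_, ?_⟩
        · intro h; apply ha1
          have := D.mul_mem h (D.inv_mem h2)
          rwa [show x * (a * b) * x⁻¹ * (x * b * x⁻¹)⁻¹ = x * a * x⁻¹ by group] at this
        · intro h; apply hb1
          have := D.mul_mem (D.inv_mem h1) h
          rwa [show (x * (x * a * x⁻¹) * x⁻¹)⁻¹ * (x * (x * (a * b) * x⁻¹) * x⁻¹) = x * (x * b * x⁻¹) * x⁻¹ by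
            simp only [mul_inv_rev, inv_inv, mul_assoc, inv_mul_cancel_left, mul_inv_cancel_left]] at this
      · exact ⟨b, hbD, h2, hb1⟩
    · exact ⟨a, haD, ha1, h1⟩
  -- the element `w v` commutes with its image
  have hwM := hD hwD
  set A := x * w * x⁻¹ with hA
  set B := x * v * x⁻¹ with hB
  set f := x * e * x⁻¹ with hf
  have hwv : w * v * (A * B) = A * B * (w * v) := by
    have := hM.commute hx (M.mul_mem hwM hv)
    rwa [show x * (w * v) * x⁻¹ = A * B by rw [hA, hB]; group] at this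
  have h1 : v * A = e⁻¹ * (A * v) := by
    rw [show A * v = (A * v * A⁻¹) * A by group, hcon A (hM.1 _ hwM) hw1]; group
  have hw1' : x⁻¹ * w * x ∉ D := by
    have e' : x⁻¹ * w * x = x * (x * w * x⁻¹) * x⁻¹ := by
      calc x⁻¹ * w * x = x⁻¹ * (x * x * x) * w * (x * x * x)⁻¹ * x := by rw [hx.cube]; group
        _ = x * (x * w * x⁻¹) * x⁻¹ := by group
    rwa [e']
  have h2 : w * B = f * (B * w) := by
    have hm : x⁻¹ * w * x ∈ M := by
      have e' : x⁻¹ * w * x = x * (x * w * x⁻¹) * x⁻¹ := by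
        calc x⁻¹ * w * x = x⁻¹ * (x * x * x) * w * (x * x * x)⁻¹ * x := by rw [hx.cube]; group
          _ = x * (x * w * x⁻¹) * x⁻¹ := by group
      rw [e']; exact hM.1 _ (hM.1 _ hwM)
    calc w * B = x * ((x⁻¹ * w * x) * v * (x⁻¹ * w * x)⁻¹) * x⁻¹ * w := by rw [hB]; group
      _ = f * (B * w) := by rw [hcon _ hm hw1', hf, hB]; group
  have hvB : v * B = B * v := hM.commute hx hv
  have hwA : w * A = A * w := hM.commute hx hwM
  have hee : e⁻¹ * w = w * e⁻¹ := by
    calc e⁻¹ * w = e⁻¹ * (w * e) * e⁻¹ := by group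
      _ = w * e⁻¹ := by rw [hDe w hwD]; group
  have h3 : w * v * (A * B) = e⁻¹ * A * f * B * (w * v) := by
    calc w * v * (A * B) = w * (v * A) * B := by group
      _ = (w * e⁻¹) * A * (v * B) := by rw [h1]; group
      _ = e⁻¹ * (w * A) * (v * B) := by rw [← hee]; group
      _ = e⁻¹ * A * (w * B) * v := by rw [hwA, hvB]; group
      _ = _ := by rw [h2]; group
  rw [h3] at hwv
  have h4 : e⁻¹ * A * f = A := mul_right_cancel (mul_right_cancel (by rw [hwv] : e⁻¹ * A * f * B * (w * v) = A * B * (w * v)))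
  have h5 : A * f * A⁻¹ = f := by
    rw [hA, hf]
    calc x * w * x⁻¹ * (x * e * x⁻¹) * (x * w * x⁻¹)⁻¹ = x * (w * e * w⁻¹) * x⁻¹ := by group
      _ = _ := by rw [hDe w hwD]; group
  have h6 : x * e * x⁻¹ = e := by
    rw [← hf]
    calc f = e * (e⁻¹ * (A * f * A⁻¹)) := by rw [h5]; group
      _ = e * ((e⁻¹ * A * f) * A⁻¹) := by group
      _ = e := by rw [h4]; group
  refine he1 (hM.eq_one hx ?_ (by rw [← mul_inv_eq_iff_eq_mul.1 h6]))
  rw [he]
  exact M.mul_mem (M.mul_mem (M.mul_mem hw0 hv) (M.inv_mem hw0)) (M.inv_mem hv)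

/-- the `2`-part of an even subgroup with normaliser of index six -/
def EvPart (M : Subgroup G) : Prop := ∃ y L, SF y ∧ IsEv y L ∧ M = part 2 L

theorem part_map_conj (hx : SF x) {q : ℕ} [Fact q.Prime] {L : Subgroup G} (hL : IsInv x L) (c : G) :
    part q (L.map (cj c)) = (part q L).map (cj c) := by
  symm
  refine Subgroup.eq_of_le_of_card_ge (le_part (hx.conj c) (hL.conj c) (Subgroup.map_mono (part_le L))
    ((part_isPGroup L).map _)) ?_
  rw [card_part, card_map_conj, card_map_conj, card_part]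

theorem IsEv.map_conj {L : Subgroup G} (hL : IsEv x L) (c : G) : IsEv (c * x * c⁻¹) (L.map (cj c)) :=
  ⟨hL.1.map_conj, by rw [card_map_conj]; exact hL.2.1,
    by rw [normalizer_map_conj, card_map_conj, card_map_conj]; exact hL.2.2⟩

theorem EvPart.map_conj {M : Subgroup G} (hM : EvPart M) (c : G) : EvPart (M.map (cj c)) := by
  obtain ⟨y, L, hy, hL, rfl⟩ := hM
  exact ⟨_, _, hy.conj c, hL.map_conj c, (part_map_conj hy hL.1.1 c).symm⟩

theorem part_isInv (hx : SF x) {q : ℕ} [Fact q.Prime] {L : Subgroup G} (hL : IsInv x L) :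
    IsInv x (part q L) :=
  isInv_of_normalizer (normalizer_le_part hx hL (mem_normalizer_of_isInv hx hL))
    fun h => hL.2 (h.trans (Subgroup.card_dvd_of_le (part_le L)))

theorem two_pow_mod {n a : ℕ} (ha : n = 2 ^ a) (h1 : n % 3 = 1) (h2 : n ≠ 1) : 4 ∣ n := by
  subst ha
  match a with
  | 0 => simp at h2
  | 1 => norm_num at h1
  | a + 2 => exact ⟨2 ^ a, by ring⟩

theorem EvPart.four_le {M : Subgroup G} (hM : EvPart M) : 4 ≤ Nat.card M := by
  obtain ⟨y, L, hy, hL, rfl⟩ := hM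
  refine Nat.le_of_dvd Nat.card_pos (two_pow_mod (card_part L) ((part_isInv hy hL.1.1).card_mod hy) ?_)
  exact fun h => part_ne_bot hL.2.1 (Subgroup.card_eq_one.1 h)

theorem EvPart.isPGroup {M : Subgroup G} (hM : EvPart M) : IsPGroup 2 M := by
  obtain ⟨y, L, -, -, rfl⟩ := hM
  exact part_isPGroup L

theorem mem_two_pow {P : Subgroup G} (hP : IsPGroup 2 P) {g : G} (hg : g ∈ P) : ∃ k : ℕ, g ^ 2 ^ k = 1 := by
  obtain ⟨k, hk⟩ := hP ⟨g, hg⟩
  exact ⟨k, congrArg Subtype.val hk⟩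

/-- in `N(L)` a `2`-element of `L` lies in the part -/
theorem mem_part (hx : SF x) {L : Subgroup G} (hL : IsInv x L) {g : G} (hg : g ∈ L) {P : Subgroup G}
    (hP : IsPGroup 2 P) (hgP : g ∈ P) : g ∈ part 2 L :=
  le_part hx hL (Subgroup.zpowers_le.2 hg) (hP.to_le (Subgroup.zpowers_le.2 hgP)) (Subgroup.mem_zpowers g)

/-- a `2`-element of the normaliser centralising the part lies in it -/
theorem cent_part (hx : SF x) (A : Amb G) {L : Subgroup G} (hL : IsEv x L) {P : Subgroup G}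
    (hP : IsPGroup 2 P) {g : G} (hgP : g ∈ P) (hc : ∀ m ∈ part 2 L, g * m = m * g) : g ∈ part 2 L := by
  have hgN : g ∈ Subgroup.normalizer (L : Set G) := by
    rw [← (max_local (q := 2) A hx hL.1 hL.2.1).1]
    refine Subgroup.mem_normalizer_iff.2 fun m => ⟨fun hm => ?_, fun hm => ?_⟩
    · rw [hc m hm, mul_inv_cancel_right]; exact hm
    · have h := hc _ hm
      have e : g * m * g⁻¹ = m := by
        calc g * m * g⁻¹ = g⁻¹ * (g * (g * m * g⁻¹)) := by group
          _ = m := by rw [h]; group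
      rwa [e] at hm
  by_cases hgL : g ∈ L
  · exact mem_part hx hL.1.1 hgL hP hgP
  exfalso
  obtain ⟨k, hk⟩ := mem_two_pow hP hgP
  obtain ⟨m, hm, hm1⟩ := (Subgroup.bot_or_exists_ne_one (part 2 L)).resolve_left (part_ne_bot hL.2.1)
  refine hm1 (out_fix hx hL hgN hgL hk (part_le L hm) (hc m hm) (hc _ ?_))
  have hi := part_isInv (q := 2) hx hL.1.1
  have h := hi.1 _ (hi.1 _ hm)
  have e' : x⁻¹ * m * x = x * (x * m * x⁻¹) * x⁻¹ := by
    calc x⁻¹ * m * x = x⁻¹ * (x * x * x) * m * (x * x * x)⁻¹ * x := by rw [hx.cube]; group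
      _ = x * (x * m * x⁻¹) * x⁻¹ := by group
  rwa [← e'] at h

/-- the centre, as a subgroup of `G` -/
def ctr (M : Subgroup G) : Subgroup G := (Subgroup.center M).map M.subtype

omit [Finite G] in
theorem mem_ctr {M : Subgroup G} {g : G} : g ∈ ctr M ↔ g ∈ M ∧ ∀ m ∈ M, m * g = g * m := by
  constructor
  · rintro ⟨⟨g, hg⟩, h, rfl⟩
    exact ⟨hg, fun m hm => congrArg Subtype.val (Subgroup.mem_center_iff.1 h ⟨m, hm⟩)⟩
  · rintro ⟨hg, h⟩
    exact ⟨⟨g, hg⟩, Subgroup.mem_center_iff.2 fun m => Subtype.ext (h m m.2), rfl⟩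

omit [Finite G] in
theorem normalizer_le_ctr (M : Subgroup G) :
    Subgroup.normalizer (M : Set G) ≤ Subgroup.normalizer (ctr M : Set G) := by
  have key : ∀ g ∈ Subgroup.normalizer (M : Set G), ∀ z ∈ ctr M, g * z * g⁻¹ ∈ ctr M := by
    intro g hg z hz
    rw [mem_ctr] at hz ⊢
    refine ⟨(Subgroup.mem_normalizer_iff.1 hg z).1 hz.1, fun m hm => ?_⟩
    have hm' : g⁻¹ * m * g ∈ M := by
      have := (Subgroup.mem_normalizer_iff.1 (Subgroup.inv_mem _ hg) m).1 hm
      rwa [inv_inv] at this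
    calc m * (g * z * g⁻¹) = g * ((g⁻¹ * m * g) * z) * g⁻¹ := by group
      _ = g * z * g⁻¹ * m := by rw [hz.2 _ hm']; group
  intro g hg
  refine Subgroup.mem_normalizer_iff.2 fun z => ⟨key g hg z, fun h => ?_⟩
  have := key _ (Subgroup.inv_mem _ hg) _ h
  rwa [show g⁻¹ * (g * z * g⁻¹) * g⁻¹⁻¹ = z by group] at this

theorem ctr_ne_bot {M : Subgroup G} (hM : IsPGroup 2 M) (h : M ≠ ⊥) : ctr M ≠ ⊥ := by
  haveI : Nontrivial M := (Subgroup.nontrivial_iff_ne_bot M).2 h
  haveI := hM.center_nontrivial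
  intro e
  exact (Subgroup.nontrivial_iff_ne_bot _).1 inferInstance
    ((Subgroup.map_eq_bot_iff_of_injective _ M.subtype_injective).1 e)

/-- two parts of index two in a common `2`-group have order four -/
theorem two_index (A : Amb G) {M M' P : Subgroup G} (hM : EvPart M) (hM' : EvPart M') (hP : IsPGroup 2 P)
    (hle : M ≤ P) (hle' : M' ≤ P) (hc : Nat.card P = 2 * Nat.card M) (hc' : Nat.card P = 2 * Nat.card M')
    (hne : M ≠ M') : Nat.card M = 4 := by
  by_contra h4
  have h5 : 4 < Nat.card M := lt_of_le_of_ne hM.four_le (Ne.symm h4)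
  have h5' : 4 < Nat.card M' := by omega
  have idx : ∀ N ≤ P, Nat.card P = 2 * Nat.card N → (N.subgroupOf P).index = 2 := by
    intro N hN e
    have := (N.subgroupOf P).card_mul_index
    rw [Nat.card_congr (Subgroup.subgroupOfEquivOfLe hN).toEquiv, e, mul_comm 2] at this
    exact Nat.eq_of_mul_eq_mul_left Nat.card_pos this
  have idx' : ∀ N ≤ P, Nat.card P = 2 * Nat.card N → ∀ a ∈ P, ∀ b ∈ P, a ∉ N → b ∉ N → a⁻¹ * b ∈ N := by
    intro N hN e a ha b hb haN hbN
    exact ((Subgroup.mul_mem_iff_of_index_two (idx N hN e) (a := (⟨a, ha⟩ : P)⁻¹) (b := ⟨b, hb⟩)).2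
      (iff_of_false (fun h => haN (inv_mem_iff.1 h)) hbN) : _)
  have pnorm : ∀ N ≤ P, Nat.card P = 2 * Nat.card N → P ≤ Subgroup.normalizer (N : Set G) := by
    intro N hN e
    haveI : (N.subgroupOf P).Normal := Subgroup.normal_of_index_eq_two (idx N hN e)
    exact Subgroup.normal_subgroupOf_iff_le_normalizer hN |>.1 inferInstance
  -- no element outside a part centralises the intersection
  have noOut : ∀ N N' : Subgroup G, EvPart N → N ≤ P → N' ≤ P → Nat.card P = 2 * Nat.card N →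
      Nat.card P = 2 * Nat.card N' → N ≠ N' → 4 < Nat.card N → ∀ g ∈ P,
      (∀ d ∈ N ⊓ N', g * d = d * g) → g ∈ N := by
    rintro N N' ⟨y, L, hy, hL, rfl⟩ hN hN' e e' hNN h5N g hg hgc
    have hgN : g ∈ Subgroup.normalizer (L : Set G) := by
      rw [← (max_local (q := 2) A hy hL.1 hL.2.1).1]; exact pnorm _ hN e hg
    by_cases hgL : g ∈ L
    · exact mem_part hy hL.1.1 hgL hP hg
    exfalso
    obtain ⟨k, hk⟩ := mem_two_pow hP hg
    set N := part 2 L
    set D := N ⊓ N' with hD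
    have hinv := part_isInv (q := 2) hy hL.1.1
    have hmem : ∀ m ∈ N, y⁻¹ * m * y ∈ N := fun m hm => by
      have := (Subgroup.mem_normalizer_iff.1 (Subgroup.inv_mem _ (mem_normalizer_of_isInv hy hinv)) m).1 hm
      rwa [inv_inv] at this
    have key : ∀ d ∈ D, y⁻¹ * d * y ∈ D → d = 1 := fun d hd hd' =>
      out_fix hy hL hgN hgL hk (part_le L hd.1) (hgc d hd) (hgc _ hd')
    have hDhalf : ∀ a ∈ N, ∀ b ∈ N, a ∉ D → b ∉ D → a⁻¹ * b ∈ D := fun a ha b hb haD hbD =>
      ⟨N.mul_mem (N.inv_mem ha) hb, idx' N' hN' e' a (hN ha) b (hN hb) (fun h => haD ⟨ha, h⟩) fun h => hbD ⟨hb, h⟩⟩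
    -- `D` has at most two elements
    have hD2 : ∀ d ∈ D, ∀ d' ∈ D, d ≠ 1 → d' ≠ 1 → d = d' := by
      intro d hd d' hd' h1 h1'
      have := hDhalf _ (hmem d hd.1) _ (hmem d' hd'.1) (fun h => h1 (key d hd h)) (fun h => h1' (key d' hd' h))
      rw [show (y⁻¹ * d * y)⁻¹ * (y⁻¹ * d' * y) = y⁻¹ * (d⁻¹ * d') * y by group] at this
      exact inv_mul_eq_one.1 (key _ (D.mul_mem (D.inv_mem hd) hd') this)
    obtain ⟨m0, hm0, hm0D⟩ : ∃ m ∈ N, m ∉ D := by
      by_contra h
      push Not at h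
      exact hNN (Subgroup.eq_of_le_of_card_ge (fun m hm => (h m hm).2) (by omega))
    have hDc : Nat.card D ≤ 2 := by
      classical
      by_cases hb : ∃ d ∈ D, d ≠ 1
      · obtain ⟨d0, hd0, hd01⟩ := hb
        have hsub : (D : Set G) ⊆ {1, d0} := fun d hd => by
          by_cases h : d = 1
          · exact Or.inl h
          · exact Or.inr (hD2 d hd d0 hd0 h hd01)
        calc Nat.card D = (D : Set G).ncard := Nat.card_coe_set_eq _
          _ ≤ ({1, d0} : Set G).ncard := Set.ncard_le_ncard hsub (Set.toFinite _)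
          _ ≤ 2 := by rw [Set.ncard_pair hd01.symm]
      · push Not at hb
        have : D = ⊥ := (Subgroup.eq_bot_iff_forall D).2 hb
        rw [this, Subgroup.card_bot]; norm_num
    classical
    let f : N → D × Bool := fun m =>
      if h : (m : G) ∈ D then (⟨m, h⟩, false) else (⟨m0⁻¹ * m, hDhalf m0 hm0 m m.2 hm0D h⟩, true)
    have hf : Function.Injective f := by
      intro a b hab
      simp only [f] at hab
      split_ifs at hab <;> simp only [Prod.ext_iff, Subtype.ext_iff, Bool.false_eq_true, Bool.true_eq_false,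
        and_false, and_true, mul_right_inj] at hab <;> exact Subtype.ext hab
    have := Nat.card_le_card_of_injective f hf
    rw [Nat.card_prod, Nat.card_eq_fintype_card (α := Bool), Fintype.card_bool] at this
    omega
  -- the centres agree
  have hZle : ∀ N N' : Subgroup G, EvPart N → EvPart N' → N ≤ P → N' ≤ P → Nat.card P = 2 * Nat.card N →
      Nat.card P = 2 * Nat.card N' → N ≠ N' → 4 < Nat.card N → ctr N' ≤ ctr N := by
    intro N N' hN hN' hl hl' e e' hNN h5N g hg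
    rw [mem_ctr] at hg ⊢
    have hgN : g ∈ N := noOut N N' hN hl hl' e e' hNN h5N g (hl' hg.1) fun d hd => (hg.2 d hd.2).symm
    obtain ⟨y, L, hy, hL, rfl⟩ := hN
    refine ⟨hgN, central_of_half hy (part_isInv hy hL.1.1) (D := part 2 L ⊓ N') inf_le_left ?_ hgN
      fun d hd => hg.2 d hd.2⟩
    exact fun a ha b hb haD hbD => ⟨(part 2 L).mul_mem ((part 2 L).inv_mem ha) hb,
      idx' N' hl' e' a (hl ha) b (hl hb) (fun h => haD ⟨ha, h⟩) fun h => hbD ⟨hb, h⟩⟩
  have hZ : ctr M = ctr M' := le_antisymm (hZle M' M hM' hM hle' hle hc' hc hne.symm h5')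
    (hZle M M' hM hM' hle hle' hc hc' hne h5)
  obtain ⟨y, L, hy, hL, rfl⟩ := hM
  obtain ⟨y', L', hy', hL', rfl⟩ := hM'
  set Z := ctr (part 2 L) with hZd
  have hZ1 : Z ≠ ⊥ := ctr_ne_bot (part_isPGroup L) (part_ne_bot hL.2.1)
  have hZM : Z ≤ part 2 L := Subgroup.map_subtype_le _
  have hZ3 : ¬ 3 ∣ Nat.card Z := fun h =>
    (part_isInv (q := 2) hy hL.1.1).2 (h.trans (Subgroup.card_dvd_of_le hZM))
  set H := Subgroup.normalizer (Z : Set G) with hH
  have hyH : y ∈ H := normalizer_le_ctr _ (mem_normalizer_of_isInv hy (part_isInv hy hL.1.1))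
  have hyH' : y' ∈ H := by
    rw [hH, hZ]; exact normalizer_le_ctr _ (mem_normalizer_of_isInv hy' (part_isInv hy' hL'.1.1))
  have hPH : P ≤ H := (pnorm _ hle hc).trans (normalizer_le_ctr _)
  have hMH : part 2 L ≤ H := hle.trans hPH
  have hne' := normalizer_ne_top A hZ1 (fun h => ne_top_of_isInv hy (part_isInv (q := 2) hy hL.1.1)
    (top_le_iff.1 (h ▸ hZM)))
  rcases local_cases hy hyH (Subgroup.le_normalizer (H := Z)) le_rfl hZ1 hZ3 with
    ⟨K, hKH, hKn, hKi, hcard, hall⟩ | ⟨K, hKH, hKi, hK2, hcard, -, hR⟩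
  · have hMK : part 2 L ≤ K := hall _ hMH (part_isInv hy hL.1.1)
    -- the other part is inside as well
    have hMK' : part 2 L' ≤ K := by
      intro g hg
      haveI : (K.subgroupOf H).Normal := Subgroup.normal_subgroupOf_of_le_normalizer hKn
      have hKc : Nat.card (K.subgroupOf H) = Nat.card K := Nat.card_congr (Subgroup.subgroupOfEquivOfLe hKH).toEquiv
      have hs : H59.SelfThree.Self3 (QuotientGroup.mk' (K.subgroupOf H) ⟨y', hyH'⟩) :=
        (hy'.self3 hZ1 hZ3 (le_of_eq hH) hyH').image (QuotientGroup.mk'_surjective _) (by rw [QuotientGroup.ker_mk', hKc]; exact hKi.2)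
      have hgH : g ∈ H := (hle'.trans hPH) hg
      have hi : H59.SelfThree.IsInv (⟨y', hyH'⟩ : H) ((part 2 L').subgroupOf H) := by
        refine ⟨fun a ha => (part_isInv (q := 2) hy' hL'.1.1).1 _ ha, ?_⟩
        rw [Nat.card_congr (Subgroup.subgroupOfEquivOfLe (hle'.trans hPH)).toEquiv]
        exact (part_isInv (q := 2) hy' hL'.1.1).2
      have hidx : Nat.card (H ⧸ K.subgroupOf H) = 3 ∨ Nat.card (H ⧸ K.subgroupOf H) = 6 := by
        have := Subgroup.card_eq_card_quotient_mul_card_subgroup (K.subgroupOf H)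
        rw [hKc] at this
        exact hcard.imp (fun e => Nat.eq_of_mul_eq_mul_right Nat.card_pos (this.symm.trans e))
          fun e => Nat.eq_of_mul_eq_mul_right Nat.card_pos (this.symm.trans e)
      have hbot := H59.SelfThree.small_index hs hidx (hi.image (QuotientGroup.mk' (K.subgroupOf H)))
      have := Subgroup.mem_map_of_mem (QuotientGroup.mk' (K.subgroupOf H))
        (show (⟨g, hgH⟩ : H) ∈ (part 2 L').subgroupOf H from hg)
      rw [hbot, Subgroup.mem_bot] at this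
      exact Subgroup.mem_subgroupOf.1 ((QuotientGroup.eq_one_iff _).1 this)
    have hPK : P ≤ K := by
      intro g hg
      by_cases h : g ∈ part 2 L
      · exact hMK h
      obtain ⟨g', hg', hg'M⟩ := Set.not_subset.1 (fun h : (part 2 L' : Set G) ⊆ part 2 L =>
        hne (Subgroup.eq_of_le_of_card_ge h (by omega)).symm)
      have := idx' _ hle hc g' (hle' hg') g hg hg'M h
      have h2 := K.mul_mem (hMK' hg') (hMK this)
      rwa [mul_inv_cancel_left] at h2
    have hmax := part_maximal A hy hL.1 hL.2.1 (part_isInv (q := 2) hy hKi) (part_isPGroup K)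
      (le_part hy hKi hMK (part_isPGroup L))
    have := le_part hy hKi hPK hP
    rw [hmax] at this
    have := Subgroup.card_le_card_group (H := part 2 L)
    have := Nat.le_of_dvd Nat.card_pos (Subgroup.card_dvd_of_le ‹P ≤ part 2 L›)
    omega
  · obtain ⟨R, hRH, hRi, hKR, hMR, hRc⟩ := hR _ hMH (part_isInv hy hL.1.1)
    obtain ⟨i, hi⟩ := IsPGroup.iff_card.1 (show IsPGroup 2 K from fun k => ⟨1, Subtype.ext (by
      rw [pow_one, sq]; exact hK2 k k.2)⟩)
    have hR2 : Nat.card R = 2 ^ (i + 2) := by rw [hRc, hi, pow_add]; ring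
    have := part_maximal A hy hL.1 hL.2.1 hRi (IsPGroup.of_card hR2) (le_sup_left.trans hMR)
    have h8 := Subgroup.card_dvd_of_le hPH
    rw [hc, ← this, hRc, hcard, ← mul_assoc] at h8
    have := Nat.dvd_of_mul_dvd_mul_right Nat.card_pos h8
    norm_num at this

end H59.Nine.Loc
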