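import Cfsg.Agent.H59.Nine.Loc.EvenBound

/-!
The classes of even maximal invariant subgroups with normaliser of index six.
-/

set_option autoImplicit false
set_option linter.unusedSectionVars false

namespace H59.Nine.Loc


variable {G : Type*} [Group G] [Finite G] {x : G}

local notation "cj" => fun c => MulEquiv.toMonoidHom (MulAut.conj c)

attribute [local instance] two_fact

/-- `M` is a part inside `P` with the full `2`-part of its normaliser -/
def Placed (P : Subgroup G) (M : Subgroup G) : Prop :=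
  EvPart M ∧ M ≤ P ∧ Nat.card ↥(P ⊓ Subgroup.normalizer (M : Set G)) = 2 * Nat.card M

theorem exists_placed (A : Amb G) (hx : SF x) {L : Subgroup G} (hL : IsEv x L) (P : Sylow 2 G) :
    ∃ c : G, Placed (P : Subgroup G) ((part 2 L).map (cj c)) := by
  obtain ⟨hN, -, -⟩ := max_local (q := 2) A hx hL.1 hL.2.1
  set M := part 2 L with hM
  set N := Subgroup.normalizer (L : Set G) with hNd
  have hMN : M ≤ N := (part_le L).trans Subgroup.le_normalizer
  obtain ⟨S, hS⟩ := ((part_isPGroup (q := 2) L).of_equiv (Subgroup.subgroupOfEquivOfLe hMN).symm).exists_le_sylow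
  have hfac : (Nat.card N).factorization 2 = (Nat.card L).factorization 2 + 1 := by
    rw [hL.2.2, Nat.factorization_mul (by norm_num) Nat.card_pos.ne', Finsupp.add_apply,
      show (6 : ℕ) = 2 * 3 from rfl, Nat.factorization_mul (by norm_num) (by norm_num), Finsupp.add_apply,
      Nat.Prime.factorization_self Nat.prime_two,
      Nat.factorization_eq_zero_of_not_dvd (show ¬ 2 ∣ 3 by norm_num)]
    omega
  have hScard : Nat.card ((S : Subgroup N).map N.subtype) = 2 * Nat.card M := by
    rw [Subgroup.card_map_of_injective N.subtype_injective, Sylow.card_eq_multiplicity, hfac, hM, card_part,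
      pow_succ, mul_comm]
  obtain ⟨P1, hP1⟩ := (S.isPGroup'.map N.subtype).exists_le_sylow
  obtain ⟨c, hc⟩ := MulAction.exists_smul_eq G P1 P
  have hP1P : ∀ g ∈ (P1 : Subgroup G), c * g * c⁻¹ ∈ (P : Subgroup G) := by
    intro g hg
    rw [← hc, Sylow.coe_subgroup_smul]
    exact ⟨g, hg, rfl⟩
  have hMS : M ≤ (S : Subgroup N).map N.subtype := fun g hg => ⟨⟨g, hMN hg⟩, hS (Subgroup.mem_subgroupOf.2 hg), rfl⟩
  refine ⟨c, ⟨x, L, hx, hL, rfl⟩ |> fun h => EvPart.map_conj h c, ?_, ?_⟩
  · rintro _ ⟨g, hg, rfl⟩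
    exact hP1P g (hP1 (hMS hg))
  · have hle : ((S : Subgroup N).map N.subtype).map (cj c) ≤
        (P : Subgroup G) ⊓ Subgroup.normalizer ((M.map (cj c) : Subgroup G) : Set G) := by
      refine le_inf ?_ ?_
      · rintro _ ⟨g, hg, rfl⟩
        exact hP1P g (hP1 hg)
      · rw [normalizer_map_conj, hN]
        exact Subgroup.map_mono (Subgroup.map_subtype_le _)
    have h1 := Subgroup.card_dvd_of_le hle
    rw [card_map_conj, hScard] at h1
    have h2 : Nat.card ↥((P : Subgroup G) ⊓ Subgroup.normalizer ((M.map (cj c) : Subgroup G) : Set G)) ∣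
        Nat.card N := by
      have := Subgroup.card_dvd_of_le (inf_le_right :
        (P : Subgroup G) ⊓ Subgroup.normalizer ((M.map (cj c) : Subgroup G) : Set G) ≤ _)
      rw [normalizer_map_conj, card_map_conj, hN] at this
      rwa [normalizer_map_conj, hN]
    obtain ⟨i, hi⟩ := IsPGroup.iff_card.1
      ((P.isPGroup').to_le (inf_le_left : _ ⊓ Subgroup.normalizer ((M.map (cj c) : Subgroup G) : Set G) ≤ _))
    rw [hi] at h1 h2 ⊢
    have hile := (Nat.prime_two.pow_dvd_iff_le_factorization Nat.card_pos.ne').1 h2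
    rw [card_map_conj]
    refine le_antisymm ?_ (Nat.le_of_dvd (pow_pos two_pos _) h1)
    rw [card_part, ← pow_succ']
    exact Nat.pow_le_pow_right two_pos (hfac ▸ hile)

theorem Placed.card_big (A : Amb G) {P : Sylow 2 G} {M : Subgroup G} (h : Placed (P : Subgroup G) M)
    (h4 : 4 < Nat.card M) : Nat.card (P : Subgroup G) = 2 * Nat.card M := by
  obtain ⟨hE, hMP, hc⟩ := h
  set P0 := (P : Subgroup G) ⊓ Subgroup.normalizer (M : Set G) with hP0
  by_contra hne
  haveI : Group.IsNilpotent (P : Subgroup G) := P.isPGroup'.isNilpotent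
  have hlt : P0.subgroupOf P < ⊤ := lt_top_iff_ne_top.2 fun h' => hne (
    (congrArg (fun H : Subgroup G => Nat.card H)
      (le_antisymm (inf_le_left : P0 ≤ (P : Subgroup G)) (Subgroup.subgroupOf_eq_top.1 h'))).symm.trans hc)
  obtain ⟨⟨g, hgP⟩, hg, hg0⟩ :=
    SetLike.exists_of_lt (Group.normalizerCondition_of_isNilpotent (G := (P : Subgroup G)) _ hlt)
  have hconj : M.map (cj g) ≤ P0 := by
    rintro _ ⟨m, hm, rfl⟩
    exact (Subgroup.mem_normalizer_iff.1 hg ⟨m, hMP hm⟩).1
      (Subgroup.mem_subgroupOf.2 ⟨hMP hm, Subgroup.le_normalizer hm⟩)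
  refine h4.ne' (two_index A hE (hE.map_conj g) (P.isPGroup'.to_le inf_le_left)
    (le_inf hMP Subgroup.le_normalizer) hconj hc (by rw [card_map_conj]; exact hc) fun e => ?_)
  exact hg0 (Subgroup.mem_subgroupOf.2 ⟨hgP, Subgroup.mem_normalizer_iff_map_conj_eq.2 e.symm⟩)

theorem Placed.cent (A : Amb G) {P : Sylow 2 G} {M : Subgroup G} (h : Placed (P : Subgroup G) M) {g : G}
    (hg : g ∈ (P : Subgroup G)) (hc : ∀ m ∈ M, g * m = m * g) : g ∈ M := by
  obtain ⟨⟨y, L, hy, hL, rfl⟩, -, -⟩ := h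
  exact cent_part hy A hL P.isPGroup' hg hc

/-- the element of a part of order four -/
theorem Placed.exists_v (A : Amb G) {P : Sylow 2 G} {M : Subgroup G} (h : Placed (P : Subgroup G) M)
    (h4 : Nat.card M = 4) : ∃ v ∈ M, v ≠ 1 ∧ (∀ m ∈ M, m * v = v * m) ∧
      ∀ g ∈ (P : Subgroup G), g * v = v * g → g ∈ M := by
  have hne : (P : Subgroup G) ≠ ⊥ := by
    intro e
    have := Subgroup.card_dvd_of_le h.2.1
    rw [e, Subgroup.card_bot, h4] at this
    norm_num at this
  obtain ⟨z, hz, hz1⟩ := (Subgroup.bot_or_exists_ne_one (ctr (P : Subgroup G))).resolve_left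
    (ctr_ne_bot P.isPGroup' hne)
  rw [mem_ctr] at hz
  have hzM : z ∈ M := h.cent A hz.1 fun m hm => (hz.2 m (h.2.1 hm)).symm
  haveI : IsMulCommutative M := IsPGroup.isMulCommutative_of_card_eq_prime_sq (p := 2) (by rw [h4]; norm_num)
  have hcomm : ∀ a ∈ M, ∀ b ∈ M, a * b = b * a := fun a ha b hb =>
    congrArg Subtype.val (IsMulCommutative.is_comm.comm (⟨a, ha⟩ : M) ⟨b, hb⟩)
  obtain ⟨v, hvM, hv1, hvz⟩ : ∃ v ∈ M, v ≠ 1 ∧ v ≠ z := by
    by_contra hcon
    push Not at hcon
    have hsub : (M : Set G) ⊆ {1, z} := fun v hv => by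
      by_cases h1 : v = 1
      · exact Or.inl h1
      · exact Or.inr (hcon v hv h1)
    have := Set.ncard_le_ncard hsub (Set.toFinite _)
    rw [Set.ncard_pair hz1.symm, ← Nat.card_coe_set_eq, show Nat.card (M : Set G) = 4 from h4] at this
    norm_num at this
  refine ⟨v, hvM, hv1, fun m hm => hcomm m hm v hvM, ?_⟩
  by_contra hcon
  set C := (P : Subgroup G) ⊓ Subgroup.centralizer ({v} : Set G) with hC
  have hMC : M ≤ C := le_inf h.2.1 fun m hm => Subgroup.mem_centralizer_singleton_iff.2 (hcomm m hm v hvM)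
  haveI : Group.IsNilpotent C := (P.isPGroup'.to_le (inf_le_left : C ≤ _)).isNilpotent
  have hlt : M.subgroupOf C < ⊤ := lt_top_iff_ne_top.2 fun h' => hcon fun g hg hgv =>
    Subgroup.subgroupOf_eq_top.1 h' ⟨hg, Subgroup.mem_centralizer_singleton_iff.2 hgv⟩
  obtain ⟨⟨g, hgC⟩, hg, hg0⟩ :=
    SetLike.exists_of_lt (Group.normalizerCondition_of_isNilpotent (G := C) _ hlt)
  refine hg0 (Subgroup.mem_subgroupOf.2 (h.cent A hgC.1 ?_))
  have hgv : g * v = v * g := Subgroup.mem_centralizer_singleton_iff.1 hgC.2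
  have hgz : g * z = z * g := hz.2 g hgC.1
  have hzv : z * v ≠ 1 := by
    intro e
    -- the elements have order two
    have hd : orderOf z ∣ 4 := h4 ▸ M.orderOf_dvd_natCard hzM
    by_cases hz2 : z * z = 1
    · exact hvz (mul_left_cancel (e.trans hz2.symm))
    · obtain ⟨y, L, hy, hL, rfl⟩ := h.1
      have hinv := part_isInv (q := 2) hy hL.1.1
      have ho : orderOf z = 4 := by
        have h1 : orderOf z ≠ 1 := fun e' => hz1 (orderOf_eq_one_iff.1 e')
        have h2 : orderOf z ≠ 2 := fun e' => hz2 (by rw [← pow_two, ← e', pow_orderOf_eq_one])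
        have := Nat.le_of_dvd (by norm_num) hd
        interval_cases h5 : orderOf z <;> omega
      have hzp : Subgroup.zpowers z = part 2 L :=
        Subgroup.eq_of_le_of_card_ge (Subgroup.zpowers_le.2 hzM) (by rw [Nat.card_zpowers, ho, h4])
      -- a cyclic group of order four has no such automorphism
      have hz2m : z * z ∈ part 2 L := Subgroup.mul_mem _ hzM hzM
      obtain ⟨i, hi⟩ := Subgroup.mem_zpowers_iff.1 (hzp.symm ▸ hinv.1 z hzM)
      refine hz2 (hinv.eq_one hy hz2m ?_)
      have hz4 : z ^ (4 : ℤ) = 1 := by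
        rw [show (4 : ℤ) = ((4 : ℕ) : ℤ) from rfl, zpow_natCast, ← ho, pow_orderOf_eq_one]
      have e2 : y * (z * z) * y⁻¹ = z * z := by
        calc y * (z * z) * y⁻¹ = (y * z * y⁻¹) * (y * z * y⁻¹) := by group
          _ = z ^ (2 * i) := by rw [← hi, ← zpow_add]; ring_nf
          _ = z * z := by
            rcases Int.even_or_odd i with ⟨j, rfl⟩ | ⟨j, rfl⟩
            · exfalso
              have : y * (z * z) * y⁻¹ = 1 := by
                calc y * (z * z) * y⁻¹ = (y * z * y⁻¹) * (y * z * y⁻¹) := by group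
                  _ = (z ^ (4 : ℤ)) ^ j := by rw [← hi, ← zpow_add, ← zpow_mul]; ring_nf
                  _ = 1 := by rw [hz4, one_zpow]
              exact hz2 (conj_eq_one_iff.1 this)
            · rw [show 2 * (2 * j + 1) = 4 * j + 2 by ring, zpow_add, zpow_mul, hz4, one_zpow, one_mul, zpow_two]
      exact (mul_inv_eq_iff_eq_mul.1 e2).symm
  intro m hm
  have hset : (M : Set G) = {1, z, v, z * v} := by
    refine (Set.eq_of_subset_of_ncard_le ?_ ?_ (Set.toFinite _)).symm
    · intro m hm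
      simp only [Set.mem_insert_iff, Set.mem_singleton_iff] at hm
      rcases hm with rfl | rfl | rfl | rfl
      exacts [M.one_mem, hzM, hvM, M.mul_mem hzM hvM]
    · rw [← Nat.card_coe_set_eq, show Nat.card (M : Set G) = 4 from h4,
        Set.ncard_insert_of_notMem (by simp [hz1.symm, hv1.symm, hzv.symm]) (Set.toFinite _),
        Set.ncard_insert_of_notMem (by simp [hvz.symm, hv1]) (Set.toFinite _),
        Set.ncard_pair (by simp [hz1])]
  have hm' : m ∈ ({1, z, v, z * v} : Set G) := hset ▸ hm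
  simp only [Set.mem_insert_iff, Set.mem_singleton_iff] at hm'
  rcases hm' with rfl | rfl | rfl | rfl
  · group
  · exact hgz
  · exact hgv
  · rw [← mul_assoc, hgz, mul_assoc, hgv, mul_assoc]

theorem ev_eq_of_conj (A : Amb G) (hx : SF x) {L L' : Subgroup G} (hL : IsEv x L) (hL' : IsEv x L')
    {c c' : G} (h : (part 2 L).map (cj c) = (part 2 L').map (cj c')) :
    ∃ i : G, i * x = x * i ∧ L' = L.map (cj i) := by
  obtain ⟨t, ht, hti, -⟩ := ev_structure hx hL
  have hg : (part 2 L).map (cj (c'⁻¹ * c)) = part 2 L' := by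
    ext m
    constructor
    · rintro ⟨a, ha, rfl⟩
      obtain ⟨b, hb, e⟩ := h.le ⟨a, ha, rfl⟩
      have e' : c' * b * c'⁻¹ = c * a * c⁻¹ := e
      show c'⁻¹ * c * a * (c'⁻¹ * c)⁻¹ ∈ part 2 L'
      rwa [show c'⁻¹ * c * a * (c'⁻¹ * c)⁻¹ = c'⁻¹ * (c * a * c⁻¹) * c' by group, ← e',
        show c'⁻¹ * (c' * b * c'⁻¹) * c' = b by group]
    · intro hm
      obtain ⟨a, ha, e⟩ := h.ge ⟨m, hm, rfl⟩
      have e' : c * a * c⁻¹ = c' * m * c'⁻¹ := e
      exact ⟨a, ha, show c'⁻¹ * c * a * (c'⁻¹ * c)⁻¹ = m by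
        rw [show c'⁻¹ * c * a * (c'⁻¹ * c)⁻¹ = c'⁻¹ * (c * a * c⁻¹) * c' by group, e']; group⟩
  obtain ⟨j, hj, e | e⟩ := max_unique A hx hL.1 hL'.1 hL.2.1 hL'.2.1 hg hti
  · exact ⟨j, hj, e⟩
  · refine ⟨t * j * t⁻¹, ?_, ?_⟩
    · have ht' : x * t = t * x⁻¹ := by
        have h1 : t * x⁻¹ * t⁻¹ = x := by rw [← conj_inv, hti, inv_inv]
        calc x * t = t * x⁻¹ * t⁻¹ * t := by rw [h1]
          _ = t * x⁻¹ := by group
      have hj' : j * x⁻¹ = x⁻¹ * j := ((show Commute j x from hj).inv_right).eq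
      calc t * j * t⁻¹ * x = t * j * (t⁻¹ * x * t) * t⁻¹ := by group
        _ = t * j * x⁻¹ * t⁻¹ := by rw [mul_assoc t⁻¹ x t, ht']; group
        _ = (t * x⁻¹) * j * t⁻¹ := by rw [mul_assoc t j, hj']; group
        _ = x * (t * j * t⁻¹) := by rw [← ht']; group
    · rw [e, show t * j * t⁻¹ = t * j * t⁻¹ from rfl]
      conv_lhs => rw [show t * j = t * j * t⁻¹ * t by group]
      conv_rhs => rw [← Subgroup.mem_normalizer_iff_map_conj_eq.1 ht]
      rw [Subgroup.map_map, map_mul]
      rfl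

open scoped Classical in
theorem ev_card_le (A : Amb G) (hx : SF x) (s : Finset (Subgroup G)) (hs : ∀ L ∈ s, IsEv x L)
    (hsep : ∀ L ∈ s, ∀ L' ∈ s, ∀ i : G, i * x = x * i → L' = L.map (cj i) → L = L') :
    s.card ≤ 4 := by
  haveI := Fintype.ofFinite G
  obtain ⟨P⟩ := (inferInstance : Nonempty (Sylow 2 G))
  choose! c hc using fun L hL => exists_placed A hx (hs L hL) P
  let M : Subgroup G → Subgroup G := fun L => (part 2 L).map (cj (c L))
  have hbig : (s.filter fun L => 4 < Nat.card (M L)).card ≤ 1 := by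
    refine Finset.card_le_one.2 fun L hL L' hL' => ?_
    rw [Finset.mem_filter] at hL hL'
    have hP := (hc L hL.1).card_big A hL.2
    have hP' := (hc L' hL'.1).card_big A hL'.2
    suffices h : (part 2 L).map (cj (c L)) = (part 2 L').map (cj (c L')) by
      obtain ⟨i, hi, e⟩ := ev_eq_of_conj A hx (hs L hL.1) (hs L' hL'.1) h
      exact hsep L hL.1 L' hL'.1 i hi e
    by_contra hne
    exact hL.2.ne' (two_index A (hc L hL.1).1 (hc L' hL'.1).1 P.isPGroup' (hc L hL.1).2.1 (hc L' hL'.1).2.1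
      hP hP' hne)
  set T := s.filter fun L => ¬ 4 < Nat.card (M L) with hT
  have hsmall : T.card ≤ 3 := by
    have h4 : ∀ L ∈ T, Nat.card (M L) = 4 := fun L hL => by
      rw [hT, Finset.mem_filter] at hL
      have hge : 4 ≤ Nat.card (M L) := (hc L hL.1).1.four_le
      have : Nat.card (M L) ≤ 4 := by omega
      omega
    choose! v hv using fun L hL => (hc L (Finset.mem_filter.1 hL).1).exists_v A (h4 L hL)
    let O : Subgroup G → Finset G := fun L =>
      Finset.image (fun g : (P : Subgroup G) => (g : G) * v L * (g : G)⁻¹) Finset.univ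
    have hO : ∀ L ∈ T, Nat.card (P : Subgroup G) ≤ 4 * (O L).card := by
      intro L hL
      rw [Nat.card_eq_fintype_card, ← Finset.card_univ]
      refine Finset.card_le_mul_card_image _ 4 fun b hb => ?_
      obtain ⟨g0, -, rfl⟩ := Finset.mem_image.1 hb
      have : (Finset.univ.filter fun g : (P : Subgroup G) => (g : G) * v L * (g : G)⁻¹ = g0 * v L * (g0 : G)⁻¹).card ≤
          Nat.card (M L) := by
        rw [← Nat.card_eq_finsetCard]
        refine Nat.card_le_card_of_injective (fun g => (⟨(g0 : G)⁻¹ * g.1, (hv L hL).2.2.2 _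
          ((P : Subgroup G).mul_mem ((P : Subgroup G).inv_mem g0.2) g.1.2) ?_⟩ : M L)) ?_
        · have e := (Finset.mem_filter.1 g.2).2
          calc (g0 : G)⁻¹ * g.1 * v L = (g0 : G)⁻¹ * ((g.1 : G) * v L * (g.1 : G)⁻¹) * g.1 := by group
            _ = _ := by rw [e]; group
        · intro g g' e
          exact Subtype.ext (Subtype.ext (mul_left_cancel (congrArg Subtype.val e)))
      rwa [h4 L hL] at this
    have hdisj : ∀ L ∈ T, ∀ L' ∈ T, L ≠ L' → Disjoint (O L) (O L') := by
      intro L hL L' hL' hne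
      refine Finset.disjoint_left.2 fun b hb hb' => hne ?_
      obtain ⟨g, -, rfl⟩ := Finset.mem_image.1 hb
      obtain ⟨g', -, e⟩ := Finset.mem_image.1 hb'
      have hLs := (Finset.mem_filter.1 hL).1
      have hLs' := (Finset.mem_filter.1 hL').1
      set k := (g' : G)⁻¹ * g
      have hk : k ∈ (P : Subgroup G) := (P : Subgroup G).mul_mem ((P : Subgroup G).inv_mem g'.2) g.2
      have hkv : k * v L * k⁻¹ = v L' := by
        calc k * v L * k⁻¹ = (g' : G)⁻¹ * ((g : G) * v L * (g : G)⁻¹) * g' := by simp only [k]; group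
          _ = v L' := by rw [← e]; group
      suffices h : (part 2 L).map (cj (k * c L)) = (part 2 L').map (cj (c L')) by
        obtain ⟨i, hi, e⟩ := ev_eq_of_conj A hx (hs L hLs) (hs L' hLs') h
        exact hsep L hLs L' hLs' i hi e
      have e2 : (part 2 L).map (cj (k * c L)) = (M L).map (cj k) := by
        ext m; constructor
        · rintro ⟨a, ha, rfl⟩
          exact ⟨_, ⟨a, ha, rfl⟩, show k * (c L * a * (c L)⁻¹) * k⁻¹ = k * c L * a * (k * c L)⁻¹ by group⟩
        · rintro ⟨_, ⟨a, ha, rfl⟩, rfl⟩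
          exact ⟨a, ha, show k * c L * a * (k * c L)⁻¹ = k * (c L * a * (c L)⁻¹) * k⁻¹ by group⟩
      rw [e2]
      refine Subgroup.eq_of_le_of_card_ge ?_ (ge_of_eq ?_)
      · rintro _ ⟨m, hm, rfl⟩
        refine (hv L' hL').2.2.2 (k * m * k⁻¹) ((P : Subgroup G).mul_mem ((P : Subgroup G).mul_mem hk
          ((hc L hLs).2.1 hm)) ((P : Subgroup G).inv_mem hk)) ?_
        rw [← hkv]
        calc k * m * k⁻¹ * (k * v L * k⁻¹) = k * (m * v L) * k⁻¹ := by group
          _ = _ := by rw [(hv L hL).2.2.1 m hm]; group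
      · rw [card_map_conj, h4 L hL]; exact (h4 L' hL').symm
    have hsub : T.biUnion O ⊆ ((Finset.univ : Finset G).filter fun g => g ∈ (P : Subgroup G)).erase 1 := by
      intro b hb
      obtain ⟨L, hL, hb⟩ := Finset.mem_biUnion.1 hb
      obtain ⟨g, -, rfl⟩ := Finset.mem_image.1 hb
      exact Finset.mem_erase.2 ⟨fun e => (hv L hL).2.1 (conj_eq_one_iff.1 e), Finset.mem_filter.2
        ⟨Finset.mem_univ _, (P : Subgroup G).mul_mem ((P : Subgroup G).mul_mem g.2
          ((hc L (Finset.mem_filter.1 hL).1).2.1 (hv L hL).1)) ((P : Subgroup G).inv_mem g.2)⟩⟩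
    have hcardP : ((Finset.univ : Finset G).filter fun g => g ∈ (P : Subgroup G)).card = Nat.card (P : Subgroup G) := by
      rw [Nat.card_eq_fintype_card, Fintype.card_subtype]
    have h := Finset.card_le_card hsub
    rw [Finset.card_biUnion fun L hL L' hL' hne => hdisj L hL L' hL' hne,
      Finset.card_erase_of_mem (by simp [(P : Subgroup G).one_mem]), hcardP] at h
    have hsum : T.card * Nat.card (P : Subgroup G) ≤ 4 * ∑ L ∈ T, (O L).card := by
      rw [Finset.mul_sum, ← smul_eq_mul, ← Finset.sum_const]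
      exact Finset.sum_le_sum hO
    have hpos : 0 < Nat.card (P : Subgroup G) := Nat.card_pos
    by_contra hc4
    have h' : 4 ≤ T.card := by omega
    have := Nat.mul_le_mul_right (Nat.card (P : Subgroup G)) h'
    omega
  have := Finset.card_filter_add_card_filter_not (s := s) (fun L => 4 < Nat.card (M L))
  rw [← hT] at this
  omega

theorem ev_no_regular (A : Amb G) (hx : SF x) {L L' : Subgroup G} (hL : IsEv x L) (hL' : IsMax x L')
    (h2 : 2 ∣ Nat.card L') (h3 : Nat.card (Subgroup.normalizer (L' : Set G)) = 3 * Nat.card L') : False := by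
  obtain ⟨P, hP⟩ := part_sylow (q := 2) A hx hL' h2 (Or.inr h3)
  have hinv : IsInv x (P : Subgroup G) := hP ▸ part_isInv hx hL'.1
  obtain ⟨c, hc⟩ := exists_placed A hx hL P
  set M := (part 2 L).map (cj c)
  have hmod : Nat.card M % 3 = 1 := by
    rw [card_map_conj]; exact (part_isInv hx hL.1.1).card_mod hx
  have hmodP := hinv.card_mod hx
  by_cases h4 : 4 < Nat.card M
  · have := hc.card_big A h4
    omega
  have h4' : Nat.card M = 4 := le_antisymm (not_lt.1 h4) hc.1.four_le
  set Z := ctr (P : Subgroup G)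
  have hZM : Z ≤ M := fun z hz => by
    rw [mem_ctr] at hz
    exact hc.cent A hz.1 fun m hm => (hz.2 m (hc.2.1 hm)).symm
  have hxN := normalizer_le_ctr _ (mem_normalizer_of_isInv hx hinv)
  have hZ3 : ¬ 3 ∣ Nat.card Z := fun h => hinv.2 (h.trans (Subgroup.card_dvd_of_le (Subgroup.map_subtype_le _)))
  have hZmod := (isInv_of_normalizer hxN hZ3).card_mod hx
  have hZ1 : Nat.card Z ≠ 1 := fun e => ctr_ne_bot P.isPGroup' (fun e' => by
    have h := hc.2.1
    rw [e'] at h
    have := Subgroup.card_dvd_of_le h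
    rw [h4', Subgroup.card_bot] at this
    norm_num at this) (Subgroup.card_eq_one.1 e)
  have hdvd := Subgroup.card_dvd_of_le hZM
  rw [h4'] at hdvd
  have hle := Nat.le_of_dvd (by norm_num) hdvd
  have hZ4 : Nat.card Z = 4 := by interval_cases h5 : Nat.card Z <;> omega
  have heq : Z = M := Subgroup.eq_of_le_of_card_ge hZM (by omega)
  have hPM : (P : Subgroup G) ≤ M := fun g hg => hc.cent A hg fun m hm => (mem_ctr.1 (show m ∈ Z by rw [heq]; exact hm)).2 g hg
  have := Subgroup.card_dvd_of_le ((inf_le_left : (P : Subgroup G) ⊓ Subgroup.normalizer (M : Set G) ≤ _).trans hPM)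
  rw [hc.2.2, h4'] at this
  norm_num at this

end H59.Nine.Loc
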