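import Cfsg.Agent.H59.Nine.Loc.Cases

/-!
Maximal invariant subgroups in a simple group.
-/

set_option autoImplicit false
set_option linter.unusedSectionVars false

namespace H59.Nine.Loc


variable {G : Type*} [Group G]

/-- simplicity -/
structure Amb (G : Type*) [Group G] : Prop where
  simple : ∀ N : Subgroup G, N.Normal → N = ⊥ ∨ N = ⊤

/-- a maximal non-trivial invariant subgroup -/
def IsMax (x : G) (L : Subgroup G) : Prop :=
  IsInv x L ∧ L ≠ ⊥ ∧ ∀ M, IsInv x M → L ≤ M → M = L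

/-- even order and normaliser of index six over `L` -/
def IsEv (x : G) (L : Subgroup G) : Prop :=
  IsMax x L ∧ 2 ∣ Nat.card L ∧ Nat.card (Subgroup.normalizer (L : Set G)) = 6 * Nat.card L

variable [Finite G] {x : G}

/-- the Sylow `q`-part of a subgroup -/
noncomputable def part (q : ℕ) (L : Subgroup G) : Subgroup G :=
  ((Classical.choice (inferInstance : Nonempty (Sylow q L)) : Sylow q L) : Subgroup L).map L.subtype

variable {q : ℕ} [hq : Fact q.Prime]

theorem part_le (L : Subgroup G) : part q L ≤ L := Subgroup.map_subtype_le _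

theorem part_isPGroup (L : Subgroup G) : IsPGroup q (part q L) :=
  (Classical.choice (inferInstance : Nonempty (Sylow q L))).isPGroup'.map _

theorem card_part (L : Subgroup G) : Nat.card (part q L) = q ^ (Nat.card L).factorization q := by
  rw [part, Subgroup.card_map_of_injective L.subtype_injective, Sylow.card_eq_multiplicity]

theorem part_ne_bot {L : Subgroup G} (hd : q ∣ Nat.card L) : part q L ≠ ⊥ := by
  intro h
  have := card_part (q := q) L
  rw [h, Subgroup.card_bot] at this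
  exact (Nat.one_lt_pow (hq.out.factorization_pos_of_dvd Nat.card_pos.ne' hd).ne' hq.out.one_lt).ne this

theorem le_part (hx : SF x) {L : Subgroup G} (hL : IsInv x L) {R : Subgroup G} (hR : R ≤ L)
    (hRq : IsPGroup q R) : R ≤ part q L := by
  haveI := hL.nilpotent hx
  obtain ⟨P', hP'⟩ := (hRq.of_equiv (Subgroup.subgroupOfEquivOfLe hR).symm).exists_le_sylow
  set P := Classical.choice (inferInstance : Nonempty (Sylow q L))
  haveI := Sylow.unique_of_normal P inferInstance
  intro g hg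
  have hle : R.subgroupOf L ≤ (P : Subgroup L) := Subsingleton.elim P' P ▸ hP'
  exact ⟨⟨g, hR hg⟩, hle (Subgroup.mem_subgroupOf.2 hg), rfl⟩

theorem normalizer_le_part (hx : SF x) {L : Subgroup G} (hL : IsInv x L) :
    Subgroup.normalizer (L : Set G) ≤ Subgroup.normalizer (part q L : Set G) := by
  intro g hg
  rw [Subgroup.mem_normalizer_iff_map_conj_eq] at hg ⊢
  refine Subgroup.eq_of_le_of_card_ge (le_part hx hL ?_ ((part_isPGroup L).map _))
    (Subgroup.card_map_of_injective (MulAut.conj g).injective).ge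
  exact (Subgroup.map_mono (part_le L)).trans hg.le

omit hq

theorem mem_normalizer_of_isInv (hx : SF x) {L : Subgroup G} (hL : IsInv x L) :
    x ∈ Subgroup.normalizer (L : Set G) := by
  refine Subgroup.mem_normalizer_iff.2 fun g => ⟨hL.1 g, fun h => ?_⟩
  have := hL.1 _ (hL.1 _ h)
  rwa [show x * (x * (x * g * x⁻¹) * x⁻¹) * x⁻¹ = (x * x * x) * g * (x * x * x)⁻¹ by group, hx.cube,
    one_mul, inv_one, mul_one] at this

theorem isInv_of_normalizer {L : Subgroup G} (hx : x ∈ Subgroup.normalizer (L : Set G))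
    (h3 : ¬ 3 ∣ Nat.card L) : IsInv x L :=
  ⟨fun g hg => (Subgroup.mem_normalizer_iff.1 hx g).1 hg, h3⟩

theorem normalizer_ne_top (A : Amb G) {Q : Subgroup G} (hQ : Q ≠ ⊥) (hQ' : Q ≠ ⊤) :
    Subgroup.normalizer (Q : Set G) ≠ ⊤ := fun h =>
  (A.simple Q (Subgroup.normalizer_eq_top_iff.1 h)).elim hQ hQ'

theorem exists_max (hx : SF x) {L : Subgroup G} (hL : IsInv x L) (h1 : L ≠ ⊥) :
    ∃ M, IsMax x M ∧ L ≤ M := by
  haveI := Fintype.ofFinite (Subgroup G)
  classical
  obtain ⟨M, hM, hmax⟩ := (Finset.univ.filter fun M : Subgroup G => IsInv x M ∧ L ≤ M).exists_maximal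
    ⟨L, by simp [hL]⟩
  rw [Finset.mem_filter] at hM
  refine ⟨M, ⟨hM.2.1, fun e => h1 (eq_bot_iff.2 (e ▸ hM.2.2)), fun N hN hle => ?_⟩, hM.2.2⟩
  exact le_antisymm (hmax (by simp [hN, hM.2.2.trans hle]) hle) hle

theorem ne_top_of_isInv (hx : SF x) {L : Subgroup G} (hL : IsInv x L) : L ≠ ⊤ := by
  intro h
  refine hL.2 ?_
  rw [h, Subgroup.card_top]
  exact hx.ord ▸ orderOf_dvd_natCard x

include hq

/-- the local structure at a maximal invariant subgroup -/
theorem max_local (A : Amb G) (hx : SF x) {L : Subgroup G} (hL : IsMax x L) (hd : q ∣ Nat.card L) :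
    Subgroup.normalizer (part q L : Set G) = Subgroup.normalizer (L : Set G) ∧
    (Nat.card (Subgroup.normalizer (L : Set G)) = 3 * Nat.card L ∨
      Nat.card (Subgroup.normalizer (L : Set G)) = 6 * Nat.card L) ∧
    ∀ M ≤ Subgroup.normalizer (L : Set G), IsInv x M → M ≤ L := by
  obtain ⟨hLi, hL1, hmax⟩ := hL
  set Q := part q L with hQ
  have hQ1 : Q ≠ ⊥ := part_ne_bot hd
  have hQ3 : ¬ 3 ∣ Nat.card Q := fun h => hLi.2 (h.trans (Subgroup.card_dvd_of_le (part_le L)))
  have hle : Subgroup.normalizer (L : Set G) ≤ Subgroup.normalizer (Q : Set G) := normalizer_le_part hx hLi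
  have hxH : x ∈ Subgroup.normalizer (Q : Set G) := hle (mem_normalizer_of_isInv hx hLi)
  have hne := normalizer_ne_top A hQ1 (ne_top_of_isInv hx (isInv_of_normalizer hxH hQ3))
  have hLH : L ≤ Subgroup.normalizer (Q : Set G) := Subgroup.le_normalizer.trans hle
  rcases local_cases hx hxH (Subgroup.le_normalizer (H := Q)) le_rfl hQ1 hQ3 with
    ⟨K, hKH, hKn, hKi, hcard, hall⟩ | ⟨K, hKH, hKi, hK2, -, hnorm, hR⟩
  · obtain rfl : K = L := hmax K hKi (hall L hLH hLi)
    have e : Subgroup.normalizer (Q : Set G) = Subgroup.normalizer (K : Set G) := le_antisymm hKn hle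
    rw [e] at hcard hall
    exact ⟨e, hcard, hall⟩
  · exfalso
    obtain ⟨R, hRH, hRi, hKR, hLR, hRc⟩ := hR L hLH hLi
    obtain rfl : R = L := hmax R hRi (le_sup_left.trans hLR)
    haveI := Fact.mk Nat.prime_two
    have hK2' : IsPGroup 2 K := fun k => ⟨1, Subtype.ext (by
      rw [pow_one, sq]; exact hK2 k k.2)⟩
    obtain ⟨i, hi⟩ := IsPGroup.iff_card.1 hK2'
    have hR2 : Nat.card R = 2 ^ (i + 2) := by rw [hRc, hi, pow_add]; ring
    have hq2 : q = 2 := (Nat.prime_dvd_prime_iff_eq hq.out Nat.prime_two).1 (hq.out.dvd_of_dvd_pow (hR2 ▸ hd))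
    subst hq2
    have hQR : Q = R := le_antisymm (part_le R) (le_part hx hLi le_rfl (IsPGroup.of_card hR2))
    have := Subgroup.card_dvd_of_le (hnorm R hLH (by rw [hQR]) hLi)
    have hpos : 0 < Nat.card K := Nat.card_pos
    have := Nat.le_of_dvd hpos this
    omega

/-- the part is a maximal invariant `q`-subgroup -/
theorem part_maximal (A : Amb G) (hx : SF x) {L : Subgroup G} (hL : IsMax x L) (hd : q ∣ Nat.card L)
    {R : Subgroup G} (hR : IsInv x R) (hRq : IsPGroup q R) (hQR : part q L ≤ R) : R = part q L := by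
  set Q := part q L
  by_contra hne
  have hlt : Q.subgroupOf R < ⊤ := lt_top_iff_ne_top.2 fun h => hne (le_antisymm (Subgroup.subgroupOf_eq_top.1 h) hQR)
  haveI := hR.nilpotent hx
  have hN := Group.normalizerCondition_of_isNilpotent (G := R) _ hlt
  obtain ⟨g, hg, hgQ⟩ := SetLike.exists_of_lt hN
  have hinv : IsInv x (R ⊓ Subgroup.normalizer (L : Set G)) :=
    hR.of_le inf_le_left fun y hy => ⟨hR.1 y hy.1,
      (Subgroup.normalizer _).mul_mem ((Subgroup.normalizer _).mul_mem (mem_normalizer_of_isInv hx hL.1) hy.2)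
        ((Subgroup.normalizer _).inv_mem (mem_normalizer_of_isInv hx hL.1))⟩
  have hgL : (g : G) ∈ Subgroup.normalizer (L : Set G) := by
    rw [← (max_local (q := q) A hx hL hd).1]
    refine Subgroup.mem_normalizer_iff.2 fun y => ⟨fun hy => ?_, fun hy => ?_⟩
    · exact (Subgroup.mem_normalizer_iff.1 hg ⟨y, hQR hy⟩).1 hy
    · have hyR : y ∈ R := by
        have := R.mul_mem (R.mul_mem (R.inv_mem g.2) (hQR hy)) g.2
        rwa [show (g : G)⁻¹ * ((g : G) * y * (g : G)⁻¹) * g = y by group] at this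
      exact (Subgroup.mem_normalizer_iff.1 hg ⟨y, hyR⟩).2 hy
  have hle := (max_local (q := q) A hx hL hd).2.2 _ inf_le_right hinv
  exact hgQ (Subgroup.mem_subgroupOf.2
    (le_part hx hL.1 hle (hRq.to_le inf_le_left) ⟨g.2, hgL⟩))

/-- the part is a Sylow subgroup unless `q = 2` and the normaliser has index six -/
theorem part_sylow (A : Amb G) (hx : SF x) {L : Subgroup G} (hL : IsMax x L) (hd : q ∣ Nat.card L)
    (h : q ≠ 2 ∨ Nat.card (Subgroup.normalizer (L : Set G)) = 3 * Nat.card L) :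
    ∃ P : Sylow q G, (P : Subgroup G) = part q L := by
  obtain ⟨P, hP⟩ := (part_isPGroup (q := q) L).exists_le_sylow
  refine ⟨P, le_antisymm ?_ hP⟩
  set Q := part q L
  by_contra hne
  have hlt : Q.subgroupOf P < ⊤ := lt_top_iff_ne_top.2 fun h => hne (Subgroup.subgroupOf_eq_top.1 h)
  haveI : Group.IsNilpotent (P : Subgroup G) := P.isPGroup'.isNilpotent
  obtain ⟨g, hg, hgQ⟩ := SetLike.exists_of_lt (Group.normalizerCondition_of_isNilpotent (G := (P : Subgroup G)) _ hlt)
  obtain ⟨hN, hcard, -⟩ := max_local (q := q) A hx hL hd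
  have hgL : (g : G) ∈ Subgroup.normalizer (L : Set G) := by
    rw [← hN]
    refine Subgroup.mem_normalizer_iff.2 fun y => ⟨fun hy => ?_, fun hy => ?_⟩
    · exact (Subgroup.mem_normalizer_iff.1 hg ⟨y, hP hy⟩).1 hy
    · have hyR : y ∈ (P : Subgroup G) := by
        have := mul_mem (mul_mem (inv_mem g.2) (hP hy)) g.2
        rwa [show (g : G)⁻¹ * ((g : G) * y * (g : G)⁻¹) * g = y by group] at this
      exact (Subgroup.mem_normalizer_iff.1 hg ⟨y, hyR⟩).2 hy
  -- the image in `N(L) / L` is trivial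
  set N := Subgroup.normalizer (L : Set G)
  haveI : (L.subgroupOf N).Normal := Subgroup.normal_subgroupOf_of_le_normalizer le_rfl
  obtain ⟨k, hk⟩ := P.isPGroup' g
  have hidx : (L.subgroupOf N).index * Nat.card L = Nat.card N := by
    rw [← Nat.card_congr (Subgroup.subgroupOfEquivOfLe (Subgroup.le_normalizer (H := L))).toEquiv]
    exact Subgroup.index_mul_card _
  have hq3 : q ≠ 3 := fun e => hL.1.2 (e ▸ hd)
  have hcop : Nat.Coprime (q ^ k) (L.subgroupOf N).index := by
    refine Nat.Coprime.pow_left k (hq.out.coprime_iff_not_dvd.2 fun hdi => ?_)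
    have hpos : 0 < Nat.card L := Nat.card_pos
    rcases hcard with e | e
    · have : (L.subgroupOf N).index = 3 := Nat.eq_of_mul_eq_mul_right hpos (hidx.trans e)
      rw [this] at hdi
      exact hq3 ((Nat.prime_dvd_prime_iff_eq hq.out Nat.prime_three).1 hdi)
    · rcases h with h2 | h3
      · have : (L.subgroupOf N).index = 2 * 3 := Nat.eq_of_mul_eq_mul_right hpos (hidx.trans e)
        rw [this] at hdi
        rcases hq.out.dvd_mul.1 hdi with h' | h'
        · exact h2 ((Nat.prime_dvd_prime_iff_eq hq.out Nat.prime_two).1 h')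
        · exact hq3 ((Nat.prime_dvd_prime_iff_eq hq.out Nat.prime_three).1 h')
      · omega
  let g' : N := ⟨g, hgL⟩
  have hmk : (QuotientGroup.mk g' : N ⧸ L.subgroupOf N) = 1 := by
    refine orderOf_eq_one_iff.1 (Nat.eq_one_of_dvd_coprimes hcop (orderOf_dvd_of_pow_eq_one ?_)
      (by rw [Subgroup.index_eq_card]; exact orderOf_dvd_natCard _))
    rw [← QuotientGroup.mk_pow]
    refine (QuotientGroup.eq_one_iff (g' ^ q ^ k)).2 ?_
    have : ((g : G)) ^ q ^ k = 1 := by rw [← SubmonoidClass.coe_pow, hk]; rfl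
    show ((g : G)) ^ q ^ k ∈ L
    rw [this]; exact one_mem L
  have hgmem : (g : G) ∈ L := Subgroup.mem_subgroupOf.1 ((QuotientGroup.eq_one_iff g').1 hmk)
  refine hgQ (Subgroup.mem_subgroupOf.2 (le_part hx hL.1 ((Subgroup.zpowers_le).2 hgmem) ?_ (Subgroup.mem_zpowers _)))
  exact P.isPGroup'.to_le ((Subgroup.zpowers_le).2 g.2)

omit hq

/-- the elements normalising `⟨x⟩` -/
theorem normalizes_cases (hx : SF x) {g : G} (hg : g * x * g⁻¹ ∈ Subgroup.zpowers x) {t : G}
    (ht : t * x * t⁻¹ = x⁻¹) : ∃ i : G, i * x = x * i ∧ (g = i ∨ g = t * i) := by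
  rcases hx.cases_of_mem_zpowers hg with e | e | e
  · exact absurd (conj_eq_one_iff.1 e) hx.ne_one
  · exact ⟨g, mul_inv_eq_iff_eq_mul.1 e, Or.inl rfl⟩
  · refine ⟨t⁻¹ * g, ?_, Or.inr (mul_inv_cancel_left t g).symm⟩
    have h1 : g * x * g⁻¹ = t * x * t⁻¹ := by rw [e, ht, hx.inv_eq]
    calc t⁻¹ * g * x = t⁻¹ * (g * x * g⁻¹) * g := by group
      _ = x * (t⁻¹ * g) := by rw [h1]; group

theorem IsMax.map_conj {L : Subgroup G} (hL : IsMax x L) {c : G} :
    IsMax (c * x * c⁻¹) (L.map (MulAut.conj c).toMonoidHom) := by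
  refine ⟨hL.1.conj c, fun h => hL.2.1 ((Subgroup.map_eq_bot_iff_of_injective _ (MulAut.conj c).injective).1 h),
    fun M hM hle => ?_⟩
  have h2 := hM.conj c⁻¹
  rw [show c⁻¹ * (c * x * c⁻¹) * c⁻¹⁻¹ = x by group] at h2
  have e := hL.2.2 _ h2 (fun g hg => ⟨c * g * c⁻¹, hle ⟨g, hg, rfl⟩, show c⁻¹ * (c * g * c⁻¹) * c⁻¹⁻¹ = g by group⟩)
  rw [← e, Subgroup.map_map]
  ext g
  refine ⟨fun hg => ⟨g, hg, show c * (c⁻¹ * g * c⁻¹⁻¹) * c⁻¹ = g by group⟩, ?_⟩
  rintro ⟨y, hy, rfl⟩
  show c * (c⁻¹ * y * c⁻¹⁻¹) * c⁻¹ ∈ M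
  rwa [show c * (c⁻¹ * y * c⁻¹⁻¹) * c⁻¹ = y by group]

theorem card_map_conj (L : Subgroup G) (c : G) :
    Nat.card (L.map (MulAut.conj c).toMonoidHom) = Nat.card L :=
  Subgroup.card_map_of_injective (MulAut.conj c).injective

theorem normalizer_map_conj (L : Subgroup G) (c : G) :
    Subgroup.normalizer ((L.map (MulAut.conj c).toMonoidHom : Subgroup G) : Set G) =
      (Subgroup.normalizer (L : Set G)).map (MulAut.conj c).toMonoidHom := by
  exact (Subgroup.map_equiv_normalizer_eq L (MulAut.conj c)).symm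

include hq

/-- if conjugates of the parts agree the subgroups are conjugate by `1` or an inverting element -/
theorem max_unique (A : Amb G) (hx : SF x) {L L' : Subgroup G} (hL : IsMax x L) (hL' : IsMax x L')
    (hd : q ∣ Nat.card L) (hd' : q ∣ Nat.card L') {g : G}
    (hg : (part q L).map (MulAut.conj g).toMonoidHom = part q L') {t : G} (ht : t * x * t⁻¹ = x⁻¹) :
    ∃ i : G, i * x = x * i ∧
      (L' = L.map (MulAut.conj i).toMonoidHom ∨ L' = L.map (MulAut.conj (t * i)).toMonoidHom) := by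
  obtain ⟨hN, hcard, hall⟩ := max_local (q := q) A hx hL hd
  obtain ⟨hN', -, hall'⟩ := max_local (q := q) A hx hL' hd'
  set N := Subgroup.normalizer (L : Set G) with hNdef
  have hNN : N.map (MulAut.conj g).toMonoidHom = Subgroup.normalizer (L' : Set G) := by
    rw [← hN, ← hN', ← hg, normalizer_map_conj]
  have hxN : x ∈ N := mem_normalizer_of_isInv hx hL.1
  have hyN : g⁻¹ * x * g ∈ N := by
    obtain ⟨y, hy, e⟩ : x ∈ N.map (MulAut.conj g).toMonoidHom := hNN ▸ mem_normalizer_of_isInv hx hL'.1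
    have e' : g * y * g⁻¹ = x := e
    rwa [← e', show g⁻¹ * (g * y * g⁻¹) * g = y by group]
  -- Sylow `3`-subgroups of `N`
  haveI := Fact.mk Nat.prime_three
  have hfac : (Nat.card N).factorization 3 = 1 := by
    have h0 : (Nat.card L).factorization 3 = 0 := Nat.factorization_eq_zero_of_not_dvd hL.1.2
    rcases hcard with e | e <;> rw [e, Nat.factorization_mul (by norm_num) Nat.card_pos.ne', Finsupp.add_apply, h0]
    · rw [Nat.Prime.factorization_self Nat.prime_three]
    · rw [show (6 : ℕ) = 2 * 3 from rfl, Nat.factorization_mul (by norm_num) (by norm_num), Finsupp.add_apply,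
        Nat.Prime.factorization_self Nat.prime_three, Nat.factorization_eq_zero_of_lt (n := 2) (by norm_num)]
  have hy3 : orderOf (g⁻¹ * x * g) = 3 := by
    have := (hx.conj g⁻¹).ord
    rwa [inv_inv] at this
  let S1 : Sylow 3 N := Sylow.ofCard (Subgroup.zpowers ⟨x, hxN⟩) (by
    rw [Nat.card_zpowers, Subgroup.orderOf_mk, hx.ord, hfac, pow_one])
  let S2 : Sylow 3 N := Sylow.ofCard (Subgroup.zpowers ⟨g⁻¹ * x * g, hyN⟩) (by
    rw [Nat.card_zpowers, Subgroup.orderOf_mk, hy3, hfac, pow_one])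
  obtain ⟨⟨n, hn⟩, hns⟩ := MulAction.exists_smul_eq N S1 S2
  have hmem : (⟨n, hn⟩ : N) * ⟨x, hxN⟩ * (⟨n, hn⟩ : N)⁻¹ ∈ Subgroup.zpowers (⟨g⁻¹ * x * g, hyN⟩ : N) := by
    have h : ((⟨n, hn⟩ : N) • S1 : Sylow 3 N) = S2 := hns
    have h' := congrArg (fun S : Sylow 3 N => (S : Subgroup N)) h
    simp only [Sylow.coe_subgroup_smul, S1, S2, Sylow.coe_ofCard] at h'
    rw [← h']
    exact ⟨_, Subgroup.mem_zpowers _, rfl⟩
  obtain ⟨i, hi⟩ := Subgroup.mem_zpowers_iff.1 hmem
  have hi' : (g⁻¹ * x * g) ^ i = n * x * n⁻¹ := by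
    have := congrArg (Subgroup.subtype N) hi
    simpa using this
  have hgn : g * n * x * (g * n)⁻¹ ∈ Subgroup.zpowers x := by
    refine Subgroup.mem_zpowers_iff.2 ⟨i, ?_⟩
    calc x ^ i = g * (g⁻¹ * x * g) ^ i * g⁻¹ := by
          rw [← conj_zpow]; congr 1; group
      _ = _ := by rw [hi']; group
  have hLn : L.map (MulAut.conj n).toMonoidHom = L := Subgroup.mem_normalizer_iff_map_conj_eq.1 hn
  obtain ⟨j, hj, hcase⟩ := normalizes_cases hx hgn ht
  have hmm : ∀ (H : Subgroup G) (a b : G), (H.map (MulAut.conj b).toMonoidHom).map (MulAut.conj a).toMonoidHom =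
      H.map (MulAut.conj (a * b)).toMonoidHom := fun H a b => by
    rw [Subgroup.map_map, map_mul]; rfl
  have hxinv : ∀ M : Subgroup G, IsMax x⁻¹ M → IsMax x M := by
    have key : ∀ M : Subgroup G, IsInv x⁻¹ M → IsInv x M := fun M hM => ⟨fun y hy => by
      have h := hM.1 _ (hM.1 _ hy)
      rwa [show x⁻¹ * (x⁻¹ * y * x⁻¹⁻¹) * x⁻¹⁻¹ = (x * x)⁻¹ * y * (x * x) by group, ← hx.inv_eq, inv_inv] at h,
      hM.2⟩
    have key' : ∀ M : Subgroup G, IsInv x M → IsInv x⁻¹ M := fun M hM => ⟨fun y hy => by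
      have h := hM.1 _ (hM.1 _ hy)
      rwa [show x * (x * y * x⁻¹) * x⁻¹ = (x * x) * y * (x * x)⁻¹ by group, ← hx.inv_eq] at h, hM.2⟩
    exact fun M hM => ⟨key M hM.1, hM.2.1, fun R hR => hM.2.2 R (key' R hR)⟩
  have hLg : IsMax x (L.map (MulAut.conj g).toMonoidHom) := by
    have e : L.map (MulAut.conj g).toMonoidHom = L.map (MulAut.conj (g * n)).toMonoidHom := by
      rw [← hmm, hLn]
    rw [e]
    have hj' : j * x * j⁻¹ = x := mul_inv_eq_iff_eq_mul.2 hj
    have hLj := hL.map_conj (c := j)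
    rw [hj'] at hLj
    rcases hcase with e' | e' <;> rw [e']
    · exact hLj
    · rw [← hmm]
      refine hxinv _ ?_
      have := hLj.map_conj (c := t)
      rwa [ht] at this
  have hle : L.map (MulAut.conj g).toMonoidHom ≤ L' :=
    hall' _ ((Subgroup.map_mono (Subgroup.le_normalizer (H := L))).trans hNN.le) hLg.1
  have heq : L' = L.map (MulAut.conj g).toMonoidHom := hLg.2.2 L' hL'.1 hle
  have e : L.map (MulAut.conj g).toMonoidHom = L.map (MulAut.conj (g * n)).toMonoidHom := by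
    rw [← hmm, hLn]
  rw [heq, e]
  refine ⟨j, hj, ?_⟩
  rcases hcase with e' | e' <;> rw [e']
  · exact Or.inl rfl
  · exact Or.inr rfl

end H59.Nine.Loc
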